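import Cfsg.Agent.StdSpFour.SplitV.Grp
import Cfsg.Agent.StdSpFour.Lift

/-!
# S1778, `Sp₄(q)`, case (A), split: lifting the system of root groups

`π : N →* X` with kernel `K` of odd order, `C = C_N(K)`.  2-elements of `π(C)` lift uniquely to 2-elements of `C`.
-/

set_option autoImplicit false
set_option linter.unusedSectionVars false

namespace Cfsg.Agent.StdSpFour.SplitV

open Subgroup Cfsg.Agent.StdSpFour.Lift

namespace Lift8

section lf

variable {N X : Type*} [Group N] [Finite N] [Group X] (π : N →* X)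

/-- 2-elements of `π(C)` -/
def Good (x : X) : Prop := Two x ∧ ∃ n ∈ C π, π n = x

variable {π}

theorem Good.two {x : X} (h : Good π x) : Two x := h.1

theorem Good.conj {x : X} (h : Good π x) (g : N) : Good π (π g * x * (π g)⁻¹) := by
  obtain ⟨h2, n, hn, rfl⟩ := h
  exact ⟨h2.conj _, g * n * g⁻¹, conj_mem_C π g hn, by rw [map_mul, map_mul, map_inv]⟩

theorem Two.mul_comm' {x y : X} (hx : Two x) (hy : Two y) (h : Commute x y) : Two (x * y) := by
  obtain ⟨k, hk⟩ := hx
  obtain ⟨l, hl⟩ := hy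
  refine ⟨k + l, ?_⟩
  have e1 : x ^ 2 ^ (k + l) = 1 := by rw [pow_add, pow_mul, hk, one_pow]
  have e2 : y ^ 2 ^ (k + l) = 1 := by rw [add_comm, pow_add, pow_mul, hl, one_pow]
  rw [h.mul_pow, e1, e2, one_mul]

theorem Good.mul {x y : X} (hx : Good π x) (hy : Good π y) (h : Commute x y) : Good π (x * y) := by
  obtain ⟨h2, n, hn, rfl⟩ := hx
  obtain ⟨h2', m, hm, rfl⟩ := hy
  exact ⟨Two.mul_comm' h2 h2' h, n * m, mul_mem hn hm, map_mul _ _ _⟩

theorem Good.inv {x : X} (hx : Good π x) : Good π x⁻¹ := by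
  obtain ⟨h2, n, hn, rfl⟩ := hx
  exact ⟨h2.inv, n⁻¹, inv_mem hn, map_inv _ _⟩

theorem Good.one : Good π (1 : X) := ⟨⟨0, one_pow _⟩, 1, one_mem _, map_one _⟩

variable (π)
variable (hk : Odd (Nat.card π.ker))
include hk

theorem exists_lf {x : X} (h : Good π x) : ∃ n ∈ C π, Two n ∧ π n = x := by
  obtain ⟨⟨k, h2⟩, n, hn, hx⟩ := h
  have hP : IsPGroup 2 (zpowers x) := by
    rintro ⟨y, m, rfl⟩
    refine ⟨k, Subtype.ext ?_⟩
    show (x ^ m) ^ 2 ^ k = 1
    rw [← zpow_natCast, ← zpow_mul, mul_comm, zpow_mul, zpow_natCast, h2, one_zpow]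
  obtain ⟨i, h1, h2', h3, -, -⟩ := exists_lift π hk hP (zpowers x).subtype (by
    rintro ⟨y, m, rfl⟩
    exact ⟨n ^ m, zpow_mem hn m, by rw [map_zpow, hx]; rfl⟩)
  exact ⟨i ⟨x, mem_zpowers x⟩, h2' _, h3 _, h1 _⟩

omit hk in
open Classical in
/-- the 2-element of `C` over a 2-element of `π(C)` -/
noncomputable def lf (hk : Odd (Nat.card π.ker)) (x : X) : N :=
  if h : Good π x then (exists_lf π hk h).choose else 1

variable {π}

theorem lf_C (x : X) : lf π hk x ∈ C π := by
  unfold lf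
  split
  · rename_i h
    exact (exists_lf π hk h).choose_spec.1
  · exact one_mem _

theorem lf_two (x : X) : Two (lf π hk x) := by
  unfold lf
  split
  · rename_i h
    exact (exists_lf π hk h).choose_spec.2.1
  · exact ⟨0, one_pow _⟩

theorem pr_lf {x : X} (h : Good π x) : π (lf π hk x) = x := by
  unfold lf
  rw [dif_pos h]
  exact (exists_lf π hk h).choose_spec.2.2

theorem lf_eq {x : X} (h : Good π x) {n : N} (h2 : Two n) (hn : π n = x) : n = lf π hk x :=
  (unique π hk (lf_C hk x) (lf_two hk x) h2 (by rw [pr_lf hk h, hn])).symm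

theorem lf_conj {x : X} (h : Good π x) (g : N) : g * lf π hk x * g⁻¹ = lf π hk (π g * x * (π g)⁻¹) := by
  apply lf_eq hk (h.conj g) ((lf_two hk x).conj g)
  rw [map_mul, map_mul, map_inv, pr_lf hk h]

theorem lf_comm {x y : X} (hx : Good π x) (hy : Good π y) (h : Commute x y) :
    Commute (lf π hk x) (lf π hk y) := by
  have h1 := lf_conj hk hy (lf π hk x)
  rw [pr_lf hk hx, h.eq, mul_inv_cancel_right] at h1
  exact mul_inv_eq_iff_eq_mul.1 h1

theorem lf_mul {x y : X} (hx : Good π x) (hy : Good π y) (h : Commute x y) :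
    lf π hk (x * y) = lf π hk x * lf π hk y :=
  (lf_eq hk (hx.mul hy h) (Two.mul_comm' (lf_two hk x) (lf_two hk y) (lf_comm hk hx hy h)) (by
    rw [map_mul, pr_lf hk hx, pr_lf hk hy])).symm

end lf

section two8

variable {F : Type*} [Field F] [CharP F 2] {N X : Type*} [Group N] [Finite N] [Group X] {π : N →* X}
  (hk : Odd (Nat.card π.ker)) (R : Two8 F X) (hg : ∀ i u, Good π (R.x1 i u)) (hna : R.na * R.na = 1)
  (hnb : R.nb * R.nb = 1) {t : N} (htt : t * t = 1) (ht : π t = R.t)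

section
include hg ht

theorem good_x2 (i : ZMod 8) (u : F) : Good π (R.x2 i u) := by
  have h := (hg i u).conj t
  rw [ht, R.t_inv] at h
  exact h

theorem good_X (i : ZMod 8) (u : F) : Good π (R.X i u) :=
  (hg i u).mul (good_x2 R hg ht i u) (R.comm12 i i u u)

include hna in
theorem good_na : Good π R.na := by
  refine ⟨⟨1, by rw [pow_one, pow_two, hna]⟩, ?_⟩
  obtain ⟨-, n, hn, e⟩ := good_X R hg ht 0 1
  obtain ⟨-, m, hm, e'⟩ := good_X R hg ht 4 1
  refine ⟨n * m * n, mul_mem (mul_mem hn hm) hn, ?_⟩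
  rw [map_mul, map_mul, e, e']
  exact R.na_eq.symm

include hnb in
theorem good_nb : Good π R.nb := by
  refine ⟨⟨1, by rw [pow_one, pow_two, hnb]⟩, ?_⟩
  obtain ⟨-, n, hn, e⟩ := good_X R hg ht 3 1
  obtain ⟨-, m, hm, e'⟩ := good_X R hg ht 7 1
  refine ⟨n * m * n, mul_mem (mul_mem hn hm) hn, ?_⟩
  rw [map_mul, map_mul, e, e']
  exact R.nb_eq.symm

end

include hg ht htt

theorem t_lf (i : ZMod 8) (u : F) : t * lf π hk (R.x1 i u) * t = lf π hk (R.x2 i u) := by
  have h := lf_conj hk (hg i u) t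
  have ti : t⁻¹ = t := inv_eq_of_mul_eq_one_right htt
  rw [ht, R.t_inv, ti] at h
  exact h

theorem X_sq (i : ZMod 8) (u : F) : R.X i u * R.X i u = 1 := by
  have h1 : R.x1 i u * R.x1 i u = 1 := by rw [← R.add, CharTwo.add_self_eq_zero, R.x1_zero]
  have h2 : R.x2 i u * R.x2 i u = 1 := by rw [← R.add2, CharTwo.add_self_eq_zero, R.x2_zero]
  have h := (R.comm12 i i u u).eq
  unfold Two8.X
  calc R.x1 i u * R.x2 i u * (R.x1 i u * R.x2 i u) = R.x1 i u * (R.x2 i u * R.x1 i u) * R.x2 i u := by group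
    _ = R.x1 i u * (R.x1 i u * R.x2 i u) * R.x2 i u := by rw [h]
    _ = (R.x1 i u * R.x1 i u) * (R.x2 i u * R.x2 i u) := by group
    _ = 1 := by rw [h1, h2, one_mul]

theorem lf_X (i : ZMod 8) (u : F) : lf π hk (R.x1 i u) * (t * lf π hk (R.x1 i u) * t) = lf π hk (R.X i u) := by
  rw [t_lf hk R hg htt ht, Two8.X, lf_mul hk (hg i u) (good_x2 R hg ht i u) (R.comm12 i i u u)]

/-- `n = x y x` lifts -/
theorem lf_n (i j : ZMod 8) {n : X} (hn : Good π n) (e : n = R.X i 1 * R.X j 1 * R.X i 1) :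
    lf π hk n = lf π hk (R.X i 1) * lf π hk (R.X j 1) * lf π hk (R.X i 1) := by
  have gi := good_X R hg ht i 1
  have gj := good_X R hg ht j 1
  have h1 : lf π hk (R.X i 1) * lf π hk (R.X i 1) = 1 := by
    rw [← lf_mul hk gi gi (Commute.refl _), X_sq R hg htt ht]
    exact (lf_eq hk Good.one ⟨0, one_pow _⟩ (map_one π)).symm
  have h2 : (lf π hk (R.X i 1))⁻¹ = lf π hk (R.X i 1) := inv_eq_of_mul_eq_one_right h1
  symm
  apply lf_eq hk hn
  · have h3 := (lf_two hk (R.X j 1)).conj (lf π hk (R.X i 1))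
    rwa [h2] at h3
  · rw [map_mul, map_mul, pr_lf hk gi, pr_lf hk gj, e]

/-- **the lifted system** -/
noncomputable def lift : Two8 F N where
  t := t
  na := lf π hk R.na
  nb := lf π hk R.nb
  x1 i u := lf π hk (R.x1 i u)
  tt := htt
  t_na := by
    have h := lf_conj hk (good_na R hg hna ht) t
    rw [ht, R.t_na.eq, mul_inv_cancel_right] at h
    exact mul_inv_eq_iff_eq_mul.1 h
  t_nb := by
    have h := lf_conj hk (good_nb R hg hnb ht) t
    rw [ht, R.t_nb.eq, mul_inv_cancel_right] at h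
    exact mul_inv_eq_iff_eq_mul.1 h
  add i u v := by
    rw [R.add, lf_mul hk (hg i u) (hg i v)]
    show R.x1 i u * R.x1 i v = R.x1 i v * R.x1 i u
    rw [← R.add, ← R.add, add_comm]
  na_x i u := by
    have h := lf_conj hk (hg i u) (lf π hk R.na)
    rw [pr_lf hk (good_na R hg hna ht), R.na_x1'] at h
    exact mul_inv_eq_iff_eq_mul.1 h
  nb_x i u := by
    have h := lf_conj hk (hg i u) (lf π hk R.nb)
    rw [pr_lf hk (good_nb R hg hnb ht), R.nb_x1'] at h
    exact mul_inv_eq_iff_eq_mul.1 h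
  c01 u v := lf_comm hk (hg _ _) (hg _ _) (R.c01 u v)
  c02 u v := lf_comm hk (hg _ _) (hg _ _) (R.c02 u v)
  c12 u v := lf_comm hk (hg _ _) (hg _ _) (R.c12 u v)
  c13 u v := lf_comm hk (hg _ _) (hg _ _) (R.c13 u v)
  c23 u v := lf_comm hk (hg _ _) (hg _ _) (R.c23 u v)
  c03 u s := by
    have h1 := lf_conj hk (hg 0 u) (lf π hk (R.x1 3 s))⁻¹
    have e1 : (R.x1 3 s)⁻¹ * R.x1 0 u * R.x1 3 s = R.x1 0 u * (R.x1 2 (u * s) * R.x1 1 (u ^ 2 * s)) := by
      have h := R.c03 u s
      rw [mul_assoc, h]; group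
    rw [map_inv, pr_lf hk (hg 3 s), inv_inv, inv_inv, e1,
      lf_mul hk (hg _ _) ((hg _ _).mul (hg _ _) (R.c12 _ _).symm) ((R.c02 _ _).mul_right (R.c01 _ _)),
      lf_mul hk (hg _ _) (hg _ _) (R.c12 _ _).symm] at h1
    calc lf π hk (R.x1 0 u) * lf π hk (R.x1 3 s) =
          lf π hk (R.x1 3 s) * ((lf π hk (R.x1 3 s))⁻¹ * lf π hk (R.x1 0 u) * lf π hk (R.x1 3 s)) := by group
      _ = _ := by rw [h1]; group
  d00 u v := by rw [t_lf hk R hg htt ht]; exact lf_comm hk (hg _ _) (good_x2 R hg ht _ _) (R.comm12 _ _ _ _)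
  d01 u v := by rw [t_lf hk R hg htt ht]; exact lf_comm hk (hg _ _) (good_x2 R hg ht _ _) (R.comm12 _ _ _ _)
  d02 u v := by rw [t_lf hk R hg htt ht]; exact lf_comm hk (hg _ _) (good_x2 R hg ht _ _) (R.comm12 _ _ _ _)
  d03 u v := by rw [t_lf hk R hg htt ht]; exact lf_comm hk (hg _ _) (good_x2 R hg ht _ _) (R.comm12 _ _ _ _)
  d11 u v := by rw [t_lf hk R hg htt ht]; exact lf_comm hk (hg _ _) (good_x2 R hg ht _ _) (R.comm12 _ _ _ _)
  d12 u v := by rw [t_lf hk R hg htt ht]; exact lf_comm hk (hg _ _) (good_x2 R hg ht _ _) (R.comm12 _ _ _ _)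
  d13 u v := by rw [t_lf hk R hg htt ht]; exact lf_comm hk (hg _ _) (good_x2 R hg ht _ _) (R.comm12 _ _ _ _)
  inj u s m r h := by
    apply R.inj
    have h1 := congrArg π h
    simp only [map_mul, map_one, ht, pr_lf hk (hg _ _)] at h1
    exact h1
  na_eq := by
    rw [lf_X hk R hg htt ht, lf_X hk R hg htt ht]
    exact lf_n hk R hg htt ht 0 4 (good_na R hg hna ht) R.na_eq
  nb_eq := by
    rw [lf_X hk R hg htt ht, lf_X hk R hg htt ht]
    exact lf_n hk R hg htt ht 3 7 (good_nb R hg hnb ht) R.nb_eq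

end two8

/-- transport along an injective homomorphism -/
def map {F : Type*} [Field F] {G H : Type*} [Group G] [Group H] (R : Two8 F G) (f : G →* H)
    (hf : Function.Injective f) : Two8 F H where
  t := f R.t
  na := f R.na
  nb := f R.nb
  x1 i u := f (R.x1 i u)
  tt := by rw [← map_mul, R.tt, map_one]
  t_na := R.t_na.map f
  t_nb := R.t_nb.map f
  add i u v := by rw [R.add, map_mul]
  na_x i u := by rw [← map_mul, R.na_x, map_mul]
  nb_x i u := by rw [← map_mul, R.nb_x, map_mul]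
  c01 u v := (R.c01 u v).map f
  c02 u v := (R.c02 u v).map f
  c12 u v := (R.c12 u v).map f
  c13 u v := (R.c13 u v).map f
  c23 u v := (R.c23 u v).map f
  c03 u s := by simp only [← map_mul]; rw [R.c03]
  d00 u v := by simp only [← map_mul]; exact (R.d00 u v).map f
  d01 u v := by simp only [← map_mul]; exact (R.d01 u v).map f
  d02 u v := by simp only [← map_mul]; exact (R.d02 u v).map f
  d03 u v := by simp only [← map_mul]; exact (R.d03 u v).map f
  d11 u v := by simp only [← map_mul]; exact (R.d11 u v).map f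
  d12 u v := by simp only [← map_mul]; exact (R.d12 u v).map f
  d13 u v := by simp only [← map_mul]; exact (R.d13 u v).map f
  inj u s m r h := by
    simp only [← map_mul] at h
    exact R.inj u s m r (hf (by rw [h, map_one]))
  na_eq := by simp only [← map_mul]; rw [← R.na_eq]
  nb_eq := by simp only [← map_mul]; rw [← R.nb_eq]

end Lift8

end Cfsg.Agent.StdSpFour.SplitV
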