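import Cfsg.Agent.StdSpFour.SplitV.Grp
import Cfsg.Agent.StdSpFour.SplitA.Defs
import Mathlib.GroupTheory.Perm.Cycle.Type
import Mathlib.GroupTheory.PGroup
import Mathlib.GroupTheory.Index

/-!
# S1778, `Sp₄(q)`, case (A), split: from `Two8` to `SplitA.Wr`
-/

set_option autoImplicit false
set_option linter.unusedSectionVars false

namespace Cfsg.Agent.StdSpFour.SplitV

open Subgroup
open scoped commutatorElement

namespace Two8

variable {F G : Type*} [Field F] [CharP F 2] [Group G] (R : Two8 F G)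

/-- the facts on `A` -/
structure AF : Prop where
  /-- the only involution centralising `A` and `t` is `t` -/
  cen : ∀ z, z * z = 1 → Commute z R.t → (∀ a ∈ R.A, Commute z a) → z = 1 ∨ z = R.t
  /-- `{s s^t : s ∈ S1}` is a Sylow 2-subgroup of `A` -/
  syl : ∀ Q : Subgroup G, Q ≤ R.A → IsPGroup 2 Q → ∃ a ∈ R.A, ∀ x ∈ Q, ∃ s ∈ R.C1.U, a⁻¹ * x * a = R.dl s

theorem exists_ne (hF : 4 ≤ Nat.card F) : ∃ c : F, c ≠ 0 ∧ c ≠ 1 := by
  by_contra h
  push Not at h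
  have hfin : Finite F := Nat.finite_of_card_ne_zero (by omega)
  have h1 : Function.Surjective (fun b : Bool => if b then (1 : F) else 0) := by
    intro x
    by_cases hx : x = 0
    · exact ⟨false, by simp [hx]⟩
    · exact ⟨true, by simp [h x hx]⟩
  have h2 := Nat.card_le_card_of_surjective _ h1
  have h3 : Nat.card Bool = 2 := by rw [Nat.card_eq_fintype_card, Fintype.card_bool]
  omega

variable {R}
variable [Finite G] (hA : R.AF)
include hA

/-- elements of `A1` inverted by `t` are central -/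
theorem ker_central {k : G} (hk : k ∈ R.A1) (h : R.dl k = 1) : ∀ a ∈ R.A1, Commute k a := by
  intro a ha
  have h1 : R.sw k⁻¹ = k := by
    rw [R.sw_inv]
    exact (eq_inv_of_mul_eq_one_left h).symm
  have h2 := R.comm_sw ha (inv_mem hk)
  rw [h1] at h2
  exact h2.symm

theorem ker_sq {k : G} (hk : k ∈ R.A1) (h : R.dl k = 1) (h2 : k * k = 1) : k = 1 := by
  have hc := ker_central hA hk h
  have h1 : R.sw k = k := by
    have h3 : R.sw k = k⁻¹ := eq_inv_of_mul_eq_one_right h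
    rw [h3]; exact inv_eq_of_mul_eq_one_right h2
  have ht : Commute k R.t := by
    have h4 : R.t * k * R.t = k := h1
    show k * R.t = R.t * k
    calc k * R.t = R.t * k * R.t * R.t := by rw [h4]
      _ = R.t * k * (R.t * R.t) := by group
      _ = _ := by rw [R.tt, mul_one]
  rcases hA.cen k h2 ht (fun a ha => by
    obtain ⟨b, hb, rfl⟩ := R.mem_A.1 ha
    have h5 : Commute k (R.sw b) := R.comm_sw hk hb
    exact (hc b hb).mul_right h5) with h6 | h6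
  · exact h6
  · exfalso
    -- `t` centralises `A1`
    have h7 : ∀ s ∈ R.C1.U, R.sw s = s := by
      intro s hs
      have h8 := (hc s (R.S1_le hs)).eq
      rw [h6] at h8
      show R.t * s * R.t = s
      rw [h8, mul_assoc, R.tt, mul_one]
    have h9 : R.x1 0 1 = 1 := by
      apply R.disj (R.x1_0_mem 1)
      rw [h7 _ (R.x1_0_mem 1)]
      exact R.x1_0_mem 1
    have h10 := R.C1.inj 1 0 0 0 (by
      show R.x1 0 1 * R.x1 3 0 * R.x1 2 0 * R.x1 1 0 = 1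
      rw [h9]; simp only [R.x1_zero, mul_one])
    exact one_ne_zero h10.1

/-- 2-elements of `A1` inverted by `t` are trivial -/
theorem ker_two {k : G} (hk : k ∈ R.A1) (h : R.dl k = 1) {n : ℕ} (h2 : k ^ 2 ^ n = 1) : k = 1 := by
  have hp : ∀ m : ℕ, k ^ m ∈ R.A1 ∧ R.dl (k ^ m) = 1 := by
    intro m
    induction m with
    | zero => rw [pow_zero]; exact ⟨one_mem _, R.dl_one⟩
    | succ m ih =>
      rw [pow_succ]
      refine ⟨mul_mem ih.1 hk, ?_⟩
      rw [R.dl_mul ih.1 hk, ih.2, h, one_mul]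
  induction n with
  | zero => rwa [pow_zero, pow_one] at h2
  | succ n ih =>
    apply ih
    apply ker_sq hA (hp _).1 (hp _).2
    rw [← pow_add]
    have : 2 ^ n + 2 ^ n = 2 ^ (n + 1) := by ring
    rw [this, h2]

/-- **`S1` is a Sylow 2-subgroup of `A1`** -/
theorem sylow {Q : Subgroup G} (hQ : Q ≤ R.A1) (h2 : IsPGroup 2 Q) : ∃ a ∈ R.A1, ∀ x ∈ Q, a⁻¹ * x * a ∈ R.C1.U := by
  -- the image in `A`
  let f : ↥Q →* G := R.dlHom.comp (inclusion hQ)
  have hf : ∀ x : Q, f x = R.dl x := fun x => rfl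
  obtain ⟨a, ha, h⟩ := hA.syl f.range (by
    rintro _ ⟨x, rfl⟩
    exact R.dl_mem (hQ x.2)) (h2.of_surjective f.rangeRestrict f.rangeRestrict_surjective)
  obtain ⟨b, hb, rfl⟩ := R.mem_A.1 ha
  refine ⟨b, hb, fun x hx => ?_⟩
  obtain ⟨s, hs, e⟩ := h (f ⟨x, hx⟩) ⟨_, rfl⟩
  have hx1 : x ∈ R.A1 := hQ hx
  have hy : b⁻¹ * x * b ∈ R.A1 := mul_mem (mul_mem (inv_mem hb) hx1) hb
  have e1 : R.dl (b⁻¹ * x * b) = R.dl s := by
    rw [← e, R.dl_mul (mul_mem (inv_mem hb) hx1) hb, R.dl_mul (inv_mem hb) hx1, R.dl_inv hb]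
    rfl
  have hs1 := R.S1_le hs
  -- `k = s⁻¹ y`
  have hk : s⁻¹ * (b⁻¹ * x * b) ∈ R.A1 := mul_mem (inv_mem hs1) hy
  have hk1 : R.dl (s⁻¹ * (b⁻¹ * x * b)) = 1 := by
    rw [R.dl_mul (inv_mem hs1) hy, R.dl_inv hs1, e1, inv_mul_cancel]
  obtain ⟨m, hm⟩ : ∃ m : ℕ, (b⁻¹ * x * b) ^ 2 ^ m = 1 := by
    obtain ⟨m, hm⟩ := h2 ⟨x, hx⟩
    have hm' : x ^ 2 ^ m = 1 := congrArg Subtype.val hm
    refine ⟨m, ?_⟩
    have : b⁻¹ * x * b = b⁻¹ * x * b⁻¹⁻¹ := by rw [inv_inv]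
    rw [this, conj_pow, hm']; group
  have hs4 : s ^ 2 ^ 2 = 1 := by
    obtain ⟨u, v, w, r, rfl⟩ := hs
    have h4 : (R.C1.el u v w r) ^ 2 ^ 2 = (R.C1.el u v w r * R.C1.el u v w r) * (R.C1.el u v w r * R.C1.el u v w r) := by
      norm_num [pow_succ]; group
    rw [h4, R.C1.el_sq, R.C1.el_sq]
    simp only [mul_zero]
    exact R.C1.el_zero
  have hc : Commute s (s⁻¹ * (b⁻¹ * x * b)) := (ker_central hA hk hk1 s hs1).symm
  have hk2 : (s⁻¹ * (b⁻¹ * x * b)) ^ 2 ^ (m + 2) = 1 := by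
    have e2 : (b⁻¹ * x * b) = s * (s⁻¹ * (b⁻¹ * x * b)) := by group
    have e3 : (b⁻¹ * x * b) ^ 2 ^ (m + 2) = 1 := by rw [pow_add 2 m 2, pow_mul, hm, one_pow]
    have e4 : s ^ 2 ^ (m + 2) = 1 := by rw [add_comm m 2, pow_add 2 2 m, pow_mul, hs4, one_pow]
    rw [e2, hc.mul_pow, e4, one_mul] at e3
    exact e3
  have hk3 := ker_two hA hk hk1 hk2
  have e5 : b⁻¹ * x * b = s := by
    calc b⁻¹ * x * b = s * (s⁻¹ * (b⁻¹ * x * b)) := by group
      _ = s := by rw [hk3, mul_one]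
  rw [e5]
  exact hs

theorem isPGroup_U [Finite F] : IsPGroup 2 R.C1.U := by
  rintro ⟨x, u, v, w, r, rfl⟩
  refine ⟨2, Subtype.ext ?_⟩
  show (R.C1.el u v w r) ^ 2 ^ 2 = 1
  have h4 : (R.C1.el u v w r) ^ 2 ^ 2 = (R.C1.el u v w r * R.C1.el u v w r) * (R.C1.el u v w r * R.C1.el u v w r) := by
    norm_num [pow_succ]; group
  rw [h4, R.C1.el_sq, R.C1.el_sq]
  simp only [mul_zero]
  exact R.C1.el_zero

/-- **the wreath situation** -/
noncomputable def wr [Finite F] (hF : 4 ≤ Nat.card F) : SplitA.Wr G where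
  q := Nat.card F
  t := R.t
  A1 := R.A1
  S1 := R.C1.U
  Ma := R.C1.Ma
  Mb := R.C1.Mb
  Z := R.C1.Z
  q4 := hF
  tt := R.tt
  t1 := by
    intro h
    have h1 : R.x1 0 1 = 1 := by
      apply R.disj (R.x1_0_mem 1)
      have : R.sw (R.x1 0 1) = R.x1 0 1 := by
        show R.t * R.x1 0 1 * R.t = _
        rw [h, one_mul, mul_one]
      rw [this]
      exact R.x1_0_mem 1
    have h10 := R.C1.inj 1 0 0 0 (by
      show R.x1 0 1 * R.x1 3 0 * R.x1 2 0 * R.x1 1 0 = 1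
      rw [h1]; simp only [R.x1_zero, mul_one])
    exact one_ne_zero h10.1
  comm := fun a ha b hb => (R.comm_sw ha hb).eq
  centre := fun s hs h => R.centre hs h
  disj := fun s hs h => R.disj hs h
  S1_le := R.S1_le
  two := isPGroup_U hA
  Ma_le := R.C1.Ma_le
  Mb_le := R.C1.Mb_le
  Z_Ma := R.C1.Z_Ma
  Z_Mb := R.C1.Z_Mb
  cardMa := R.C1.cardMa
  cardMb := R.C1.cardMb
  cardZ := R.C1.cardZ
  sqMa := fun x hx => R.C1.sqMa hx
  sqMb := fun x hx => R.C1.sqMb hx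
  invM := fun x hx h => R.C1.invM hx h
  Zc := fun z hz x hx => R.C1.Zc hz hx
  sup := fun x hx => R.C1.sup hx
  nc := fun x hx hxZ y hy hyZ => R.C1.nc hx hxZ hy hyZ
  comm_le := fun x hx y hy => R.C1.comm_le hx hy
  comm_ge := R.C1.comm_ge (exists_ne hF)
  sq4 := fun x hx y hy h h1 h2 => R.C1.sq4 hx hy h h1 h2
  hoist := by
    intro x hx h
    obtain ⟨a, ha, h1⟩ := sylow hA (Q := zpowers x) (zpowers_le.2 hx) (by
      rintro ⟨y, m, rfl⟩
      refine ⟨1, Subtype.ext ?_⟩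
      show (x ^ m) ^ 2 ^ 1 = 1
      rw [pow_one, pow_two, ← (Commute.refl x).mul_zpow, h, one_zpow])
    obtain ⟨b, hb, h2⟩ := R.hoist' (h1 x (mem_zpowers x)) (by
      calc a⁻¹ * x * a * (a⁻¹ * x * a) = a⁻¹ * (x * x) * a := by group
        _ = 1 := by rw [h]; group)
    refine ⟨a * b, mul_mem ha hb, ?_⟩
    have : (a * b)⁻¹ * x * (a * b) = b⁻¹ * (a⁻¹ * x * a) * b := by group
    rw [this]
    exact h2
  syl := fun Q hQ h2 => sylow hA hQ h2
  gen := fun H h => R.gen H h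

theorem wr_A [Finite F] (hF : 4 ≤ Nat.card F) : (wr hA hF).A = R.A := by
  ext x
  rw [R.mem_A]
  exact Iff.rfl

theorem wr_A2 [Finite F] (hF : 4 ≤ Nat.card F) : (wr hA hF).A2 = R.A2 := by
  ext x
  constructor
  · intro h
    have h1 : R.sw x ∈ R.A1 := h
    have h2 := R.sw_mem_A2 h1
    rwa [R.sw_sw] at h2
  · intro h
    exact R.sw_mem_A1 h

end Two8

end Cfsg.Agent.StdSpFour.SplitV
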