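import Cfsg.Agent.StdSpFour.SplitV.InstX
import Cfsg.Agent.StdSpFour.SplitV.Lift8
import Cfsg.Agent.StdSpFour.SplitV.ToWr
import Cfsg.Agent.StdSpFour.EnvFacts
import Mathlib.GroupTheory.Sylow

/-!
# S1778, `Sp₄(q)`, case (A), split: the system of root groups in `G`, and the wreath situation `SplitA.Wr`
-/

set_option autoImplicit false
set_option linter.unusedSectionVars false

namespace Cfsg.Agent.StdSpFour.SplitV

open Subgroup Cfsg.Agent.StdSpFour.Lift Cfsg.Agent.StdEven.CoreQuot Cfsg.Agent.StdEven.Loc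
open scoped commutatorElement

namespace InstG

/-! ### in `X` -/

section X

variable {F X : Type*} [Field F] [CharP F 2] [Finite F] [Group X] {B : Base F X} {A : Subgroup X} (W : Weyl B)
  (R : RingA B 0 0 0)

theorem X_0 (u : F) : (InstX.two8 R W).X 0 u = B.xa u := by
  show R.pa u * (B.t * R.pa u * B.t) = B.xa u
  rw [InstX.t_pa, InstX.xa_pa]
theorem X_1 (u : F) : (InstX.two8 R W).X 1 u = B.zl u := by
  show R.pl u * (B.t * R.pl u * B.t) = B.zl u
  rw [InstX.t_pl, InstX.zl_pl]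
theorem X_2 (u : F) : (InstX.two8 R W).X 2 u = B.zs u := by
  show R.ps u * (B.t * R.ps u * B.t) = B.zs u
  rw [InstX.t_ps, InstX.zs_ps]
theorem X_3 (u : F) : (InstX.two8 R W).X 3 u = B.xb u := by
  show R.pb u * (B.t * R.pb u * B.t) = B.xb u
  rw [InstX.t_pb, InstX.xb_pb]

end X

end InstG

namespace Two8

variable {F G : Type*} [Field F] [Group G] (R : Two8 F G)

theorem na_X (i : ZMod 8) (u : F) : R.na * R.X i u * R.na⁻¹ = R.X (4 - i) u := by
  unfold X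
  rw [← R.na_x1', ← R.na_x2']; group
theorem nb_X (i : ZMod 8) (u : F) : R.nb * R.X i u * R.nb⁻¹ = R.X (2 - i) u := by
  unfold X
  rw [← R.nb_x1', ← R.nb_x2']; group

/-- induction over the eight roots with the two reflections -/
theorem ind8 {Q : ZMod 8 → Prop} (h0 : Q 0) (h1 : Q 1) (h2 : Q 2) (h3 : Q 3) (ha : ∀ i, Q i → Q (4 - i))
    (hb : ∀ i, Q i → Q (2 - i)) (i : ZMod 8) : Q i := by
  have h4 := ha _ h0
  have h7 := hb _ h3
  have h6 := hb _ h4
  have h5 := ha _ h7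
  have key : ∀ j : ZMod 8, j = 0 ∨ j = 1 ∨ j = 2 ∨ j = 3 ∨ j = 4 - 0 ∨ j = 4 - (2 - 3) ∨ j = 2 - (4 - 0) ∨
      j = 2 - 3 := by decide
  rcases key i with rfl | rfl | rfl | rfl | rfl | rfl | rfl | rfl
  · exact h0
  · exact h1
  · exact h2
  · exact h3
  · exact h4
  · exact h5
  · exact h6
  · exact h7

end Two8

namespace InstG

section X

variable {F X : Type*} [Field F] [CharP F 2] [Finite F] [Group X] {B : Base F X} {A : Subgroup X} (E : Env B A)
  (R : RingA B 0 0 0)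

/-- the root groups of the diagonal lie in `A` -/
theorem X_mem_A (i : ZMod 8) : ∀ u, (InstX.two8 R E.weyl).X i u ∈ A := by
  refine Two8.ind8 (Q := fun i => ∀ u, (InstX.two8 R E.weyl).X i u ∈ A) ?_ ?_ ?_ ?_ ?_ ?_ i
  · intro u; rw [X_0]; exact E.xa_mem u
  · intro u; rw [X_1]; exact E.zl_mem u
  · intro u; rw [X_2]; exact E.zs_mem u
  · intro u; rw [X_3]; exact E.xb_mem u
  · intro i h u
    rw [← Two8.na_X]
    exact mul_mem (mul_mem E.na_mem (h u)) (inv_mem E.na_mem)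
  · intro i h u
    rw [← Two8.nb_X]
    exact mul_mem (mul_mem E.nb_mem (h u)) (inv_mem E.nb_mem)

/-- the torus normalises the diagonal -/
theorem h_X (i : ZMod 8) : ∀ (α β : Fˣ) u, B.h α β * (InstX.two8 R E.weyl).X i u * (B.h α β)⁻¹ ∈
    (InstX.two8 R E.weyl).A := by
  set S := InstX.two8 R E.weyl with hS
  have hna : S.na = B.na := rfl
  have hnb : S.nb = B.nb := rfl
  refine Two8.ind8 (Q := fun i => ∀ (α β : Fˣ) u, B.h α β * S.X i u * (B.h α β)⁻¹ ∈ S.A) ?_ ?_ ?_ ?_ ?_ ?_ i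
  · intro α β u
    have h1 : B.h α β * S.X 0 u * (B.h α β)⁻¹ = S.X 0 (α * u) := by
      rw [hS, X_0, X_0, B.h_xa, mul_inv_cancel_right]
    rw [h1]; exact S.X_mem _ _
  · intro α β u
    have h1 : B.h α β * S.X 1 u * (B.h α β)⁻¹ = S.X 1 (α ^ 2 * β * u) := by
      rw [hS, X_1, X_1, B.h_zl, mul_inv_cancel_right]
    rw [h1]; exact S.X_mem _ _
  · intro α β u
    have h1 : B.h α β * S.X 2 u * (B.h α β)⁻¹ = S.X 2 (α * β * u) := by
      rw [hS, X_2, X_2, B.h_zs, mul_inv_cancel_right]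
    rw [h1]; exact S.X_mem _ _
  · intro α β u
    have h1 : B.h α β * S.X 3 u * (B.h α β)⁻¹ = S.X 3 (β * u) := by
      rw [hS, X_3, X_3, B.h_xb, mul_inv_cancel_right]
    rw [h1]; exact S.X_mem _ _
  · intro i h α β u
    rw [← S.na_X]
    have e1 : B.h α β * B.na = B.na * B.h α⁻¹ (α ^ 2 * β) := by
      rw [B.na_h, inv_inv]; congr 2
      rw [inv_pow, inv_mul_cancel_left]
    have e2 : B.h α β * (S.na * S.X i u * S.na⁻¹) * (B.h α β)⁻¹ =
        S.na * (B.h α⁻¹ (α ^ 2 * β) * S.X i u * (B.h α⁻¹ (α ^ 2 * β))⁻¹) * S.na⁻¹ := by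
      rw [hna]
      calc B.h α β * (B.na * S.X i u * B.na⁻¹) * (B.h α β)⁻¹ =
            (B.h α β * B.na) * S.X i u * (B.h α β * B.na)⁻¹ := by group
        _ = _ := by rw [e1]; group
    rw [e2]
    exact mul_mem (mul_mem S.na_mem (h _ _ _)) (inv_mem S.na_mem)
  · intro i h α β u
    rw [← S.nb_X]
    have e1 : B.h α β * B.nb = B.nb * B.h (α * β) β⁻¹ := by
      rw [B.nb_h, inv_inv]; congr 2
      rw [mul_inv_cancel_right]
    have e2 : B.h α β * (S.nb * S.X i u * S.nb⁻¹) * (B.h α β)⁻¹ =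
        S.nb * (B.h (α * β) β⁻¹ * S.X i u * (B.h (α * β) β⁻¹)⁻¹) * S.nb⁻¹ := by
      rw [hnb]
      calc B.h α β * (B.nb * S.X i u * B.nb⁻¹) * (B.h α β)⁻¹ =
            (B.h α β * B.nb) * S.X i u * (B.h α β * B.nb)⁻¹ := by group
        _ = _ := by rw [e1]; group
    rw [e2]
    exact mul_mem (mul_mem S.nb_mem (h _ _ _)) (inv_mem S.nb_mem)

theorem h_A (α β : Fˣ) {x : X} (hx : x ∈ (InstX.two8 R E.weyl).A) :
    B.h α β * x * (B.h α β)⁻¹ ∈ (InstX.two8 R E.weyl).A := by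
  have h : (InstX.two8 R E.weyl).A ≤ (InstX.two8 R E.weyl).A.comap (MulAut.conj (B.h α β)).toMonoidHom := by
    conv_lhs => rw [Two8.A]
    rw [closure_le]
    rintro _ ⟨i, u, rfl⟩
    exact h_X E R i α β u
  exact h hx

theorem isU_mem {u : X} (h : Env.IsU B u) : u ∈ (InstX.two8 R E.weyl).A := by
  obtain ⟨u, s, m, r, rfl⟩ := h
  unfold Base.v1
  rw [← X_0 E.weyl R, ← X_1 E.weyl R, ← X_2 E.weyl R, ← X_3 E.weyl R]
  have := Two8.X_mem (InstX.two8 R E.weyl)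
  exact mul_mem (this _ _) (mul_mem (mul_mem (this _ _) (this _ _)) (this _ _))

theorem isW_mem {n : X} (h : Env.IsW B n) : n ∈ (InstX.two8 R E.weyl).A := by
  have ha : B.na ∈ (InstX.two8 R E.weyl).A := (InstX.two8 R E.weyl).na_mem
  have hb : B.nb ∈ (InstX.two8 R E.weyl).A := (InstX.two8 R E.weyl).nb_mem
  rcases h with rfl | rfl | rfl | rfl | rfl | rfl | rfl | rfl
  · exact one_mem _
  · exact ha
  · exact hb
  · exact mul_mem ha hb
  · exact mul_mem hb ha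
  · exact mul_mem (mul_mem ha hb) ha
  · exact mul_mem (mul_mem hb ha) hb
  · exact mul_mem (mul_mem (mul_mem ha hb) ha) hb

/-- **the diagonal is `A`** -/
theorem A_eq (hp : A ≤ ⁅A, A⁆) : (InstX.two8 R E.weyl).A = A := by
  set S := InstX.two8 R E.weyl with hS
  apply le_antisymm
  · rw [Two8.A, closure_le]
    rintro _ ⟨i, u, rfl⟩
    exact X_mem_A E R i u
  · have form : ∀ g ∈ A, ∃ d ∈ S.A, ∃ α β, g = d * B.h α β := by
      intro g hg
      obtain ⟨u, hu, α, β, n, hn, u', hu', rfl⟩ := E.bruhat g hg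
      refine ⟨u * (B.h α β * (n * u') * (B.h α β)⁻¹), mul_mem (isU_mem E R hu)
        (h_A E R α β (mul_mem (isW_mem E R hn) (isU_mem E R hu'))), α, β, by group⟩
    refine hp.trans (commutator_le.2 ?_)
    intro g hg g' hg'
    obtain ⟨d, hd, α, β, rfl⟩ := form g hg
    obtain ⟨d', hd', α', β', rfl⟩ := form g' hg'
    have hc : B.h α β * B.h α' β' * (B.h α β)⁻¹ = B.h α' β' := by
      rw [← B.h_mul, mul_comm α, mul_comm β, B.h_mul, mul_inv_cancel_right]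
    have e : ⁅d * B.h α β, d' * B.h α' β'⁆ =
        d * (B.h α β * d' * (B.h α β)⁻¹) * (B.h α' β' * d⁻¹ * (B.h α' β')⁻¹) * d'⁻¹ := by
      rw [commutatorElement_def]
      calc d * B.h α β * (d' * B.h α' β') * (d * B.h α β)⁻¹ * (d' * B.h α' β')⁻¹
          = d * (B.h α β * d' * (B.h α β)⁻¹) * (B.h α β * B.h α' β' * (B.h α β)⁻¹) * d⁻¹ * (B.h α' β')⁻¹ * d'⁻¹ := by
            group
        _ = _ := by rw [hc]; group
    rw [e]
    exact mul_mem (mul_mem (mul_mem hd (h_A E R α β hd')) (h_A E R α' β' (inv_mem hd))) (inv_mem hd')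

end X

/-- a 2-subgroup which is maximal contains conjugates of all 2-subgroups -/
theorem conj_into {G : Type*} [Group G] [Finite G] {A S Q : Subgroup G} (hS : S ≤ A) (h2 : IsPGroup 2 S)
    (hmax : ∀ P : Subgroup G, P ≤ A → IsPGroup 2 P → S ≤ P → P ≤ S) (hQ : Q ≤ A) (hQ2 : IsPGroup 2 Q) :
    ∃ a ∈ A, ∀ x ∈ Q, a⁻¹ * x * a ∈ S := by
  have : Fact (Nat.Prime 2) := ⟨Nat.prime_two⟩
  have h2' : IsPGroup 2 (S.subgroupOf A) := h2.comap_of_injective A.subtype A.subtype_injective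
  have hQ2' : IsPGroup 2 (Q.subgroupOf A) := hQ2.comap_of_injective A.subtype A.subtype_injective
  obtain ⟨P0, h0⟩ := h2'.exists_le_sylow
  obtain ⟨P1, h1⟩ := hQ2'.exists_le_sylow
  obtain ⟨g, hg⟩ := MulAction.exists_smul_eq A P1 P0
  refine ⟨(g : G)⁻¹, inv_mem g.2, fun x hx => ?_⟩
  have hx1 : (⟨x, hQ hx⟩ : A) ∈ (P1 : Subgroup A) := h1 (mem_subgroupOf.2 hx)
  have hx2 : g * ⟨x, hQ hx⟩ * g⁻¹ ∈ (P0 : Subgroup A) := by
    rw [← hg, Sylow.coe_subgroup_smul]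
    exact ⟨_, hx1, rfl⟩
  have hle : (P0 : Subgroup A).map A.subtype ≤ S := by
    apply hmax
    · rintro _ ⟨y, -, rfl⟩; exact y.2
    · exact P0.isPGroup'.map _
    · intro s hs
      exact ⟨⟨s, hS hs⟩, h0 (mem_subgroupOf.2 hs), rfl⟩
  have := hle ⟨_, hx2, rfl⟩
  rw [inv_inv]
  exact this

/-! ### in `G` -/

section G

variable {F : Type*} [Field F] [CharP F 2] [Finite F] {G : Type*} [Group G] [Finite G]
  {A : Subgroup G} {t : G} {T : Subgroup G}

section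
variable (H : Hyp A t T)
include H

/-- `im A` is perfect -/
theorem perfect_im : im A t A ≤ ⁅im A t A, im A t A⁆ := by
  let f : ↥A →* XQ A t := (pr A t).comp (inclusion H.A_le)
  have hf : (⊤ : Subgroup A).map f = im A t A := by
    ext x
    constructor
    · rintro ⟨a, -, rfl⟩
      exact pr_mem_im a.2
    · intro hx
      obtain ⟨n, hn, rfl⟩ := mem_im.mp hx
      exact ⟨⟨n, hn⟩, mem_top _, rfl⟩
  have h1 := congrArg (fun K : Subgroup A => K.map f) H.perfect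
  simp only [map_commutator, hf] at h1
  exact h1.ge

theorem mem_Cb_of {h : XQ A t} (hh : h ∈ Cb A t) {p : F → XQ A t} (hadd : ∀ u v, p (u + v) = p u * p v) {c : F}
    (hc : c + 1 ≠ 0) (hp : ∀ u, h * p u = p (c * u) * h) (n : F) : p n ∈ Cb A t := by
  have h0 : p 0 = 1 := by
    have := hadd 0 0
    rw [add_zero] at this
    exact left_eq_mul.1 this
  have h1 : h * p ((c + 1)⁻¹ * n) * h⁻¹ * (p ((c + 1)⁻¹ * n))⁻¹ = p n := by
    have h2 : (p ((c + 1)⁻¹ * n))⁻¹ = p ((c + 1)⁻¹ * n) := by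
      apply inv_eq_of_mul_eq_one_left
      rw [← hadd, CharTwo.add_self_eq_zero, h0]
    rw [h2, hp, mul_inv_cancel_right, ← hadd]
    congr 1
    have : c * ((c + 1)⁻¹ * n) + (c + 1)⁻¹ * n = (c + 1) * ((c + 1)⁻¹ * n) := by ring
    rw [this, mul_inv_cancel_left₀ hc]
  rw [← h1]
  exact Cb_comm hh _

end

variable (H : Hyp A t T) {B : Base F (XQ A t)} (E : Env B (im A t A)) (ht : B.t = H.tX) (R : RingA B 0 0 0)
  (hF : 4 ≤ Nat.card F)

include H hF in
theorem good (i : ZMod 8) : ∀ u, Lift8.Good (pr A t) ((InstX.two8 R E.weyl).x1 i u) := by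
  set S := InstX.two8 R E.weyl with hS
  have hsq : ∀ i u, Two (S.x1 i u) := by
    intro i u
    refine ⟨1, ?_⟩
    rw [pow_one, pow_two, ← S.add, CharTwo.add_self_eq_zero, S.x1_zero]
  suffices h : ∀ i u, S.x1 i u ∈ Cb A t from fun u => ⟨hsq i u, h i u⟩
  obtain ⟨l, hl⟩ : ∃ l : Fˣ, (l : F) + 1 ≠ 0 := by
    obtain ⟨c, hc0, hc1⟩ := Two8.exists_ne (F := F) hF
    exact ⟨Units.mk0 c hc0, fun h => hc1 (CharTwo.add_eq_zero.1 h)⟩
  have hle := im_A_le H
  intro i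
  refine Two8.ind8 (Q := fun i => ∀ u, S.x1 i u ∈ Cb A t) ?_ ?_ ?_ ?_ ?_ ?_ i
  · exact mem_Cb_of H (hle (E.h_mem l 1)) (S.add 0) hl (fun u => R.h_pa l 1 u)
  · refine mem_Cb_of H (hle (E.h_mem 1 l)) (S.add 1) hl (fun u => ?_)
    have := R.h_pl 1 l u
    rw [Units.val_one, one_pow, one_mul] at this
    exact this
  · refine mem_Cb_of H (hle (E.h_mem 1 l)) (S.add 2) hl (fun u => ?_)
    have := R.h_ps 1 l u
    rw [Units.val_one, one_mul] at this
    exact this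
  · exact mem_Cb_of H (hle (E.h_mem 1 l)) (S.add 3) hl (fun u => R.h_pb 1 l u)
  · intro i h u
    rw [← S.na_x1']
    exact Cb_conj (h u) _
  · intro i h u
    rw [← S.nb_x1']
    exact Cb_conj (h u) _

/-- the lifted system in `N_G(O)` -/
noncomputable def RN : Two8 F ↥(NO A t) :=
  Lift8.lift H.odd_ker (InstX.two8 R E.weyl) (fun i u => good H E R hF i u) E.weyl.na_sq E.weyl.nb_sq
    (t := ⟨t, H.t_mem⟩) (Subtype.ext H.tt) (by rw [← H.tX_eq, ← ht]; rfl)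

/-- **the system of root groups in `G`** -/
noncomputable def RG : Two8 F G := Lift8.map (RN H E ht R hF) (NO A t).subtype (NO A t).subtype_injective

theorem RG_t : (RG H E ht R hF).t = t := rfl

theorem RG_x1 (i : ZMod 8) (u : F) : (RG H E ht R hF).x1 i u =
    ((Lift8.lf (pr A t) H.odd_ker ((InstX.two8 R E.weyl).x1 i u) : ↥(NO A t)) : G) := rfl

/-- the root groups centralise `O` -/
theorem core_x1 (i : ZMod 8) (u : F) {o : G} (ho : o ∈ core A t) :
    o * (RG H E ht R hF).x1 i u = (RG H E ht R hF).x1 i u * o := mem_C.1 (Lift8.lf_C H.odd_ker _) o ho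

theorem x1_NO (i : ZMod 8) (u : F) : (RG H E ht R hF).x1 i u ∈ NO A t := (Lift8.lf (pr A t) H.odd_ker _).2

theorem pr_x1 (i : ZMod 8) (u : F) : pr A t ⟨(RG H E ht R hF).x1 i u, x1_NO H E ht R hF i u⟩ =
    (InstX.two8 R E.weyl).x1 i u := Lift8.pr_lf H.odd_ker (good H E R hF i u)

/-- `O` centralises `A1` -/
theorem core_A1 {o : G} (ho : o ∈ core A t) {a : G} (ha : a ∈ (RG H E ht R hF).A1) : o * a = a * o := by
  have h : (RG H E ht R hF).A1 ≤ centralizer {o} := by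
    rw [Two8.A1, closure_le]
    rintro _ ⟨i, u, rfl⟩
    rw [SetLike.mem_coe, mem_centralizer_singleton_iff]
    exact (core_x1 H E ht R hF i u ho).symm
  exact (mem_centralizer_singleton_iff.1 (h ha)).symm

include ht in
theorem pr_t : pr A t ⟨t, H.t_mem⟩ = B.t := by rw [← H.tX_eq, ht]

theorem RG_X (i : ZMod 8) (u : F) : (RG H E ht R hF).X i u =
    ((Lift8.lf (pr A t) H.odd_ker ((InstX.two8 R E.weyl).X i u) : ↥(NO A t)) : G) :=
  congrArg Subtype.val (Lift8.lf_X H.odd_ker (InstX.two8 R E.weyl) (fun i u => good H E R hF i u)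
    (t := ⟨t, H.t_mem⟩) (Subtype.ext H.tt) (by rw [← H.tX_eq, ← ht]; rfl) i u)

include H ht hF in
theorem good_X (i : ZMod 8) (u : F) : Lift8.Good (pr A t) ((InstX.two8 R E.weyl).X i u) :=
  Lift8.good_X (InstX.two8 R E.weyl) (fun i u => good H E R hF i u)
    (t := ⟨t, H.t_mem⟩) (by rw [← H.tX_eq, ← ht]; rfl) i u

theorem RG_X_mem (i : ZMod 8) (u : F) : (RG H E ht R hF).X i u ∈ A := by
  have hg := good_X H E ht R hF i u
  obtain ⟨a, ha, ha2, e⟩ := exists_two_A H (X_mem_A E R i u) hg.two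
  have h1 : (⟨a, H.A_le ha⟩ : ↥(NO A t)) = Lift8.lf (pr A t) H.odd_ker ((InstX.two8 R E.weyl).X i u) := by
    apply Lift8.lf_eq H.odd_ker hg _ e
    obtain ⟨k, hk⟩ := ha2
    exact ⟨k, Subtype.ext hk⟩
  rw [RG_X, ← h1]
  exact ha

theorem RG_A_le : (RG H E ht R hF).A ≤ A := by
  rw [Two8.A, closure_le]
  rintro _ ⟨i, u, rfl⟩
  exact RG_X_mem H E ht R hF i u

/-- elements of the diagonal in `X` lift to the diagonal in `G` -/
theorem exists_A {x : XQ A t} (hx : x ∈ (InstX.two8 R E.weyl).A) :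
    ∃ a, ∃ ha : a ∈ (RG H E ht R hF).A, pr A t ⟨a, H.A_le (RG_A_le H E ht R hF ha)⟩ = x := by
  let K : Subgroup (XQ A t) := im A t (RG H E ht R hF).A
  have h : (InstX.two8 R E.weyl).A ≤ K := by
    rw [Two8.A, closure_le]
    rintro _ ⟨i, u, rfl⟩
    refine mem_im.2 ⟨Lift8.lf (pr A t) H.odd_ker ((InstX.two8 R E.weyl).X i u), ?_,
      Lift8.pr_lf H.odd_ker (good_X H E ht R hF i u)⟩
    rw [← RG_X H E ht R hF]
    exact Two8.X_mem _ _ _
  obtain ⟨n, hn, e⟩ := mem_im.1 (h hx)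
  exact ⟨n, hn, e⟩

/-- **the diagonal in `G` is `A`** -/
theorem RG_A : (RG H E ht R hF).A = A := by
  apply le_antisymm (RG_A_le H E ht R hF)
  have hAX := A_eq E R (perfect_im H)
  -- `a = d c` with `c` central in `A`
  have form : ∀ a ∈ A, ∃ d ∈ (RG H E ht R hF).A, ∃ c ∈ core A t, a = d * c := by
    intro a ha
    have h1 : pr A t ⟨a, H.A_le ha⟩ ∈ (InstX.two8 R E.weyl).A := by
      rw [hAX]; exact pr_mem_im ha
    obtain ⟨d, hd, e⟩ := exists_A H E ht R hF h1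
    refine ⟨d, hd, d⁻¹ * a, ?_, by group⟩
    have h2 : pr A t (⟨d, H.A_le (RG_A_le H E ht R hF hd)⟩⁻¹ * ⟨a, H.A_le ha⟩) = 1 := by
      rw [map_mul, map_inv, e, inv_mul_cancel]
    exact pr_eq_one.mp h2
  have hp : A ≤ ⁅A, A⁆ := by
    have h1 := congrArg (fun K : Subgroup A => K.map A.subtype) H.perfect
    simp only [map_commutator, ← MonoidHom.range_eq_map, A.range_subtype] at h1
    exact h1.ge
  refine hp.trans (commutator_le.2 ?_)
  intro g hg g' hg'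
  obtain ⟨d, hd, c, hc, rfl⟩ := form g hg
  obtain ⟨d', hd', c', hc', rfl⟩ := form g' hg'
  have hdA := RG_A_le H E ht R hF hd
  have hdA' := RG_A_le H E ht R hF hd'
  have c1 : ∀ {k a : G}, k ∈ core A t → a ∈ A → k * a = a * k := fun hk ha =>
    comm_of_centralizer (H.core_le hk) ha
  have hcA : c ∈ A := by
    have := mul_mem (inv_mem hdA) hg
    rwa [inv_mul_cancel_left] at this
  have hcA' : c' ∈ A := by
    have := mul_mem (inv_mem hdA') hg'
    rwa [inv_mul_cancel_left] at this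
  have e : ⁅d * c, d' * c'⁆ = ⁅d, d'⁆ := by
    rw [commutatorElement_def, commutatorElement_def]
    have e1 := c1 hc hdA'
    have e2 := c1 hc hcA'
    have e3 := c1 hc' hdA
    have e4 := c1 hc' hdA'
    calc d * c * (d' * c') * (d * c)⁻¹ * (d' * c')⁻¹
        = d * (c * d') * c' * c⁻¹ * d⁻¹ * c'⁻¹ * d'⁻¹ := by group
      _ = d * d' * (c * c') * c⁻¹ * d⁻¹ * c'⁻¹ * d'⁻¹ := by rw [e1]; group
      _ = d * d' * (c' * c) * c⁻¹ * d⁻¹ * c'⁻¹ * d'⁻¹ := by rw [e2]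
      _ = d * d' * (c' * d⁻¹) * c'⁻¹ * d'⁻¹ := by group
      _ = d * d' * (d⁻¹ * c') * c'⁻¹ * d'⁻¹ := by rw [c1 hc' (inv_mem hdA)]
      _ = _ := by group
  rw [e, commutatorElement_def]
  exact mul_mem (mul_mem (mul_mem hd hd') (inv_mem hd)) (inv_mem hd')

/-- the Sylow 2-subgroup of `A` -/
noncomputable def UA : Subgroup G :=
  ((RG H E ht R hF).C1.U.subgroupOf (RG H E ht R hF).A1).map (RG H E ht R hF).dlHom

theorem mem_UA {x : G} : x ∈ UA H E ht R hF ↔ ∃ s ∈ (RG H E ht R hF).C1.U, x = (RG H E ht R hF).dl s := by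
  constructor
  · rintro ⟨s, hs, rfl⟩
    exact ⟨s, hs, rfl⟩
  · rintro ⟨s, hs, rfl⟩
    exact ⟨⟨s, (RG H E ht R hF).S1_le hs⟩, mem_subgroupOf.2 hs, rfl⟩

theorem dl_el (u s m r : F) : (RG H E ht R hF).dl ((RG H E ht R hF).C1.el u s m r) =
    (RG H E ht R hF).X 0 u * (RG H E ht R hF).X 3 s * (RG H E ht R hF).X 2 m * (RG H E ht R hF).X 1 r := by
  set S := RG H E ht R hF
  show S.dl (S.x1 0 u * S.x1 3 s * S.x1 2 m * S.x1 1 r) = _
  rw [S.dl_mul (mul_mem (mul_mem (S.x1_mem _ _) (S.x1_mem _ _)) (S.x1_mem _ _)) (S.x1_mem _ _),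
      S.dl_mul (mul_mem (S.x1_mem _ _) (S.x1_mem _ _)) (S.x1_mem _ _), S.dl_mul (S.x1_mem _ _) (S.x1_mem _ _)]
  rfl

/-- the image of `s s^t` in `X` -/
theorem pr_dl_el (u s m r : F) (hN : (RG H E ht R hF).dl ((RG H E ht R hF).C1.el u s m r) ∈ NO A t) :
    pr A t ⟨_, hN⟩ = B.xa u * B.xb s * B.zs m * B.zl r := by
  have e : (⟨(RG H E ht R hF).dl ((RG H E ht R hF).C1.el u s m r), hN⟩ : ↥(NO A t)) =
      Lift8.lf (pr A t) H.odd_ker ((InstX.two8 R E.weyl).X 0 u) *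
      Lift8.lf (pr A t) H.odd_ker ((InstX.two8 R E.weyl).X 3 s) *
      Lift8.lf (pr A t) H.odd_ker ((InstX.two8 R E.weyl).X 2 m) *
      Lift8.lf (pr A t) H.odd_ker ((InstX.two8 R E.weyl).X 1 r) := by
    apply Subtype.ext
    show (RG H E ht R hF).dl ((RG H E ht R hF).C1.el u s m r) = _
    rw [dl_el, RG_X, RG_X, RG_X, RG_X]
    rfl
  rw [e]
  simp only [map_mul, Lift8.pr_lf H.odd_ker (good_X H E ht R hF _ _)]
  rw [X_0, X_1, X_2, X_3]

/-- **`{s s^t : s ∈ S1}` is a Sylow 2-subgroup of `A`** -/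
theorem UA_max (P : Subgroup G) (hPA : P ≤ A) (hP : IsPGroup 2 P) (hle : UA H E ht R hF ≤ P) :
    P ≤ UA H E ht R hF := by
  intro x hx
  have h1 := E.syl (im A t P) (im_mono hPA) (by
    intro y hy
    obtain ⟨n, hn, rfl⟩ := mem_im.1 hy
    obtain ⟨k, hk⟩ := hP ⟨n, hn⟩
    have hk' : (n : G) ^ 2 ^ k = 1 := congrArg Subtype.val hk
    refine ⟨k, ?_⟩
    rw [← map_pow]
    have : n ^ 2 ^ k = 1 := Subtype.ext hk'
    rw [this, map_one]) (by
    rintro u ⟨u, s, m, r, rfl⟩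
    have h2 : (RG H E ht R hF).dl ((RG H E ht R hF).C1.el u s m r) ∈ P :=
      hle ((mem_UA H E ht R hF).2 ⟨_, ⟨_, _, _, _, rfl⟩, rfl⟩)
    refine mem_im.2 ⟨⟨_, H.A_le (hPA h2)⟩, h2, ?_⟩
    rw [pr_dl_el]
    unfold Base.v1
    group) (pr A t ⟨x, H.A_le (hPA hx)⟩) (pr_mem_im hx)
  obtain ⟨u, s, m, r, e⟩ := h1
  have hs : (RG H E ht R hF).C1.el u s m r ∈ (RG H E ht R hF).C1.U := ⟨_, _, _, _, rfl⟩
  have h2 : (RG H E ht R hF).dl ((RG H E ht R hF).C1.el u s m r) ∈ UA H E ht R hF :=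
    (mem_UA H E ht R hF).2 ⟨_, hs, rfl⟩
  have h3 := hle h2
  have h4 : (⟨x, H.A_le (hPA hx)⟩ : ↥(NO A t)) = ⟨_, H.A_le (hPA h3)⟩ := by
    have two : ∀ {y : G} (hy : y ∈ P), Two (⟨y, H.A_le (hPA hy)⟩ : ↥(NO A t)) := by
      intro y hy
      obtain ⟨k, hk⟩ := hP ⟨y, hy⟩
      have hk' : y ^ 2 ^ k = 1 := congrArg Subtype.val hk
      exact ⟨k, Subtype.ext hk'⟩
    apply unique (pr A t) H.odd_ker (A_mem_C H (hPA hx)) (two hx) (two h3)
    rw [e, pr_dl_el]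
    unfold Base.v1
    group
  have h5 : x = (RG H E ht R hF).dl ((RG H E ht R hF).C1.el u s m r) := congrArg Subtype.val h4
  rw [h5]
  exact h2

/-- **the facts on `A`** -/
theorem af : (RG H E ht R hF).AF where
  cen := by
    intro z hz hzt hc
    rw [RG_A] at hc
    exact H.eq_of_two (mem_centralizer_iff.2 fun a ha => (hc a ha).eq.symm) hzt.eq (k := 1)
      (by rw [pow_one, pow_two, hz])
  syl := by
    intro Q hQ hQ2
    rw [RG_A] at hQ
    have hUA : UA H E ht R hF ≤ A := by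
      intro x hx
      obtain ⟨s, hs, rfl⟩ := (mem_UA H E ht R hF).1 hx
      exact RG_A_le H E ht R hF ((RG H E ht R hF).dl_mem ((RG H E ht R hF).S1_le hs))
    obtain ⟨a, ha, h⟩ := conj_into hUA (by
      rintro ⟨x, hx⟩
      obtain ⟨s, ⟨u, v, m, r, rfl⟩, rfl⟩ := (mem_UA H E ht R hF).1 hx
      refine ⟨2, Subtype.ext ?_⟩
      set S := RG H E ht R hF
      have hm := S.S1_le (⟨u, v, m, r, rfl⟩ : S.C1.el u v m r ∈ S.C1.U)
      show (S.dl (S.C1.el u v m r)) ^ 2 ^ 2 = 1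
      have h4 : (S.dl (S.C1.el u v m r)) ^ 2 ^ 2 = (S.dl (S.C1.el u v m r) * S.dl (S.C1.el u v m r)) *
          (S.dl (S.C1.el u v m r) * S.dl (S.C1.el u v m r)) := by
        norm_num [pow_succ]; group
      rw [h4, ← S.dl_mul hm hm, ← S.dl_mul (mul_mem hm hm) (mul_mem hm hm), S.C1.el_sq, S.C1.el_sq]
      simp only [mul_zero]
      rw [S.C1.el_zero, S.dl_one]) (UA_max H E ht R hF) hQ hQ2
    refine ⟨a, by rw [RG_A]; exact ha, fun x hx => ?_⟩
    exact (mem_UA H E ht R hF).1 (h x hx)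

/-- **THE WREATH SITUATION IN `G`** -/
noncomputable def wrG : SplitA.Wr G := Two8.wr (af H E ht R hF) hF

theorem wrG_t : (wrG H E ht R hF).t = t := rfl
theorem wrG_q : (wrG H E ht R hF).q = Nat.card F := rfl
theorem wrG_A1 : (wrG H E ht R hF).A1 = (RG H E ht R hF).A1 := rfl
theorem wrG_S1 : (wrG H E ht R hF).S1 = (RG H E ht R hF).C1.U := rfl
theorem wrG_A : (wrG H E ht R hF).A = A := (Two8.wr_A (af H E ht R hF) hF).trans (RG_A H E ht R hF)

end G

end InstG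

end Cfsg.Agent.StdSpFour.SplitV
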