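import Cfsg.Agent.StdSpFour.SplitV.Two8
import Cfsg.Agent.StdSpFour.SplitA.UCoord

/-!
# S1778, `Sp₄(q)`, case (A), split: the groups `A1`, `A2 = A1 ^ t`, `A = {a a^t : a ∈ A1}`
-/

set_option autoImplicit false

namespace Cfsg.Agent.StdSpFour.SplitV

open Subgroup
open scoped commutatorElement

namespace Two8

variable {F G : Type*} [Field F] [Group G] (R : Two8 F G)

/-- the first copy -/
def A1 : Subgroup G := closure {g | ∃ i u, g = R.x1 i u}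
/-- the second copy -/
def A2 : Subgroup G := closure {g | ∃ i u, g = R.x2 i u}
/-- the diagonal -/
def A : Subgroup G := closure {g | ∃ i u, g = R.X i u}

theorem x1_mem (i : ZMod 8) (u : F) : R.x1 i u ∈ R.A1 := subset_closure ⟨i, u, rfl⟩
theorem x2_mem (i : ZMod 8) (u : F) : R.x2 i u ∈ R.A2 := subset_closure ⟨i, u, rfl⟩
theorem X_mem (i : ZMod 8) (u : F) : R.X i u ∈ R.A := subset_closure ⟨i, u, rfl⟩

/-- **`A1` and `A2` commute** -/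
theorem comm_A {a b : G} (ha : a ∈ R.A1) (hb : b ∈ R.A2) : Commute a b := by
  have h1 : ∀ i u, ∀ b ∈ R.A2, Commute (R.x1 i u) b := by
    intro i u b hb
    have h2 : R.A2 ≤ centralizer {R.x1 i u} := by
      rw [A2, closure_le]
      rintro _ ⟨j, v, rfl⟩
      rw [SetLike.mem_coe, mem_centralizer_singleton_iff]
      exact (R.comm12 i j u v).symm.eq
    exact (mem_centralizer_singleton_iff.1 (h2 hb) : b * _ = _).symm
  have h3 : R.A1 ≤ centralizer {b} := by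
    rw [A1, closure_le]
    rintro _ ⟨i, u, rfl⟩
    rw [SetLike.mem_coe, mem_centralizer_singleton_iff]
    exact (h1 i u b hb).eq
  exact mem_centralizer_singleton_iff.1 (h3 ha)

theorem sw_mem_A2 {a : G} (ha : a ∈ R.A1) : R.sw a ∈ R.A2 := by
  have h : R.A1 ≤ R.A2.comap R.swHom := by
    rw [A1, closure_le]
    rintro _ ⟨i, u, rfl⟩
    exact R.x2_mem i u
  exact h ha

theorem sw_mem_A1 {a : G} (ha : a ∈ R.A2) : R.sw a ∈ R.A1 := by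
  have h : R.A2 ≤ R.A1.comap R.swHom := by
    rw [A2, closure_le]
    rintro _ ⟨i, u, rfl⟩
    have h1 : R.swHom (R.x2 i u) = R.x1 i u := R.sw_x2 i u
    rw [SetLike.mem_coe, mem_comap, h1]
    exact R.x1_mem i u
  exact h ha

theorem comm_sw {a b : G} (ha : a ∈ R.A1) (hb : b ∈ R.A1) : Commute a (R.sw b) := R.comm_A ha (R.sw_mem_A2 hb)

/-- `a ↦ a a^t` -/
def dl (a : G) : G := a * R.sw a

theorem dl_mul {a b : G} (ha : a ∈ R.A1) (hb : b ∈ R.A1) : R.dl (a * b) = R.dl a * R.dl b := by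
  have h := (R.comm_sw hb ha).eq
  unfold dl
  rw [sw_mul]
  calc a * b * (R.sw a * R.sw b) = a * (b * R.sw a) * R.sw b := by group
    _ = a * (R.sw a * b) * R.sw b := by rw [h]
    _ = _ := by group

theorem dl_one : R.dl 1 = 1 := by rw [dl, sw_one, one_mul]

theorem dl_inv {a : G} (ha : a ∈ R.A1) : R.dl a⁻¹ = (R.dl a)⁻¹ := by
  apply eq_inv_of_mul_eq_one_left
  rw [← R.dl_mul (inv_mem ha) ha, inv_mul_cancel, dl_one]

/-- `a ↦ a a^t` as a homomorphism -/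
def dlHom : ↥R.A1 →* G where
  toFun a := R.dl a
  map_one' := R.dl_one
  map_mul' a b := R.dl_mul a.2 b.2

theorem dl_x1 (i : ZMod 8) (u : F) : R.dl (R.x1 i u) = R.X i u := rfl

theorem dl_mem {a : G} (ha : a ∈ R.A1) : R.dl a ∈ R.A := by
  have h : ∀ a (ha : a ∈ R.A1), a ∈ R.A1 ∧ R.dl a ∈ R.A := by
    intro a ha
    refine ⟨ha, ?_⟩
    rw [A1] at ha
    induction ha using closure_induction with
    | mem x hx =>
      obtain ⟨i, u, rfl⟩ := hx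
      exact R.X_mem i u
    | one => rw [dl_one]; exact one_mem _
    | mul x y hx hy h1 h2 => rw [R.dl_mul hx hy]; exact mul_mem h1 h2
    | inv x hx h1 => rw [R.dl_inv hx]; exact inv_mem h1
  exact (h a ha).2

/-- **`A = {a a^t : a ∈ A1}`** -/
theorem mem_A {x : G} : x ∈ R.A ↔ ∃ a ∈ R.A1, x = R.dl a := by
  constructor
  · intro hx
    have h : R.A ≤ R.dlHom.range := by
      rw [A, closure_le]
      rintro _ ⟨i, u, rfl⟩
      exact ⟨⟨R.x1 i u, R.x1_mem i u⟩, rfl⟩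
    obtain ⟨a, ha⟩ := h hx
    exact ⟨a, a.2, ha.symm⟩
  · rintro ⟨a, ha, rfl⟩
    exact R.dl_mem ha

theorem sw_dl {a : G} (ha : a ∈ R.A1) : R.sw (R.dl a) = R.dl a := by
  unfold dl
  rw [sw_mul, sw_sw, (R.comm_sw ha ha).eq]

theorem t_dl {a : G} (ha : a ∈ R.A1) : Commute R.t (R.dl a) := by
  have h := R.sw_dl ha
  have h' : R.t * R.dl a * R.t = R.dl a := h
  show R.t * R.dl a = R.dl a * R.t
  calc R.t * R.dl a = (R.t * R.dl a * R.t) * R.t⁻¹ := by group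
    _ = _ := by rw [h', R.t_inv]

theorem t_A {x : G} (hx : x ∈ R.A) : Commute R.t x := by
  obtain ⟨a, ha, rfl⟩ := R.mem_A.1 hx
  exact R.t_dl ha

/-- conjugation by `a a^t` on `A1` is conjugation by `a` -/
theorem dl_conj {a b : G} (ha : a ∈ R.A1) (hb : b ∈ R.A1) : R.dl a * b * (R.dl a)⁻¹ = a * b * a⁻¹ := by
  have h := (R.comm_sw hb ha).eq
  unfold dl
  rw [mul_inv_rev]
  calc a * R.sw a * b * ((R.sw a)⁻¹ * a⁻¹) = a * (R.sw a * b) * (R.sw a)⁻¹ * a⁻¹ := by group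
    _ = a * (b * R.sw a) * (R.sw a)⁻¹ * a⁻¹ := by rw [h]
    _ = _ := by group

/-- `na` in the first copy -/
def n1a : G := R.x1 0 1 * R.x1 4 1 * R.x1 0 1
/-- `nb` in the first copy -/
def n1b : G := R.x1 3 1 * R.x1 7 1 * R.x1 3 1

theorem n1a_mem : R.n1a ∈ R.A1 := mul_mem (mul_mem (R.x1_mem _ _) (R.x1_mem _ _)) (R.x1_mem _ _)
theorem n1b_mem : R.n1b ∈ R.A1 := mul_mem (mul_mem (R.x1_mem _ _) (R.x1_mem _ _)) (R.x1_mem _ _)

theorem dl_n1a : R.dl R.n1a = R.na := by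
  rw [n1a, R.dl_mul (mul_mem (R.x1_mem _ _) (R.x1_mem _ _)) (R.x1_mem _ _), R.dl_mul (R.x1_mem _ _) (R.x1_mem _ _)]
  exact R.na_eq.symm

theorem dl_n1b : R.dl R.n1b = R.nb := by
  rw [n1b, R.dl_mul (mul_mem (R.x1_mem _ _) (R.x1_mem _ _)) (R.x1_mem _ _), R.dl_mul (R.x1_mem _ _) (R.x1_mem _ _)]
  exact R.nb_eq.symm

theorem na_mem : R.na ∈ R.A := by rw [← dl_n1a]; exact R.dl_mem R.n1a_mem
theorem nb_mem : R.nb ∈ R.A := by rw [← dl_n1b]; exact R.dl_mem R.n1b_mem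

theorem n1a_x1 (i : ZMod 8) (u : F) : R.n1a * R.x1 i u * R.n1a⁻¹ = R.x1 (4 - i) u := by
  rw [← R.dl_conj R.n1a_mem (R.x1_mem i u), R.dl_n1a, R.na_x1']
theorem n1b_x1 (i : ZMod 8) (u : F) : R.n1b * R.x1 i u * R.n1b⁻¹ = R.x1 (2 - i) u := by
  rw [← R.dl_conj R.n1b_mem (R.x1_mem i u), R.dl_n1b, R.nb_x1']
theorem n1a_x (i : ZMod 8) (u : F) : R.n1a * R.x1 i u = R.x1 (4 - i) u * R.n1a := by
  rw [← R.n1a_x1, inv_mul_cancel_right]
theorem n1b_x (i : ZMod 8) (u : F) : R.n1b * R.x1 i u = R.x1 (2 - i) u * R.n1b := by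
  rw [← R.n1b_x1, inv_mul_cancel_right]

/-- the Sylow 2-subgroup of the first copy in coordinates -/
def C1 : SplitA.UCoord.UC F G where
  xa := R.x1 0
  xb := R.x1 3
  zs := R.x1 2
  zl := R.x1 1
  xa_add := R.add 0
  xb_add := R.add 3
  zs_add := R.add 2
  zl_add := R.add 1
  xa_zs := R.c02
  xa_zl := R.c01
  xb_zs := fun u m => (R.c23 m u).symm
  xb_zl := fun u m => (R.c13 m u).symm
  zs_zl := fun u m => (R.c12 m u).symm
  xa_xb := R.c03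
  inj := by
    intro u s m r h
    apply R.inj
    have h1 := congrArg R.dl h
    rw [R.dl_mul (mul_mem (mul_mem (R.x1_mem _ _) (R.x1_mem _ _)) (R.x1_mem _ _)) (R.x1_mem _ _),
      R.dl_mul (mul_mem (R.x1_mem _ _) (R.x1_mem _ _)) (R.x1_mem _ _), R.dl_mul (R.x1_mem _ _) (R.x1_mem _ _),
      dl_one] at h1
    exact h1

/-- the Sylow 2-subgroup of the first copy -/
def S1 : Subgroup G := closure {g | ∃ u, g = R.x1 0 u ∨ g = R.x1 1 u ∨ g = R.x1 2 u ∨ g = R.x1 3 u}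

section charTwo

variable [CharP F 2]

theorem S1_le : R.C1.U ≤ R.A1 := by
  rintro _ ⟨u, s, m, r, rfl⟩
  exact mul_mem (mul_mem (mul_mem (R.x1_mem _ _) (R.x1_mem _ _)) (R.x1_mem _ _)) (R.x1_mem _ _)

theorem x1_0_mem (u : F) : R.x1 0 u ∈ R.C1.U := ⟨u, 0, 0, 0, by
  show _ = R.x1 0 u * R.x1 3 0 * R.x1 2 0 * R.x1 1 0
  simp only [R.x1_zero, mul_one]⟩
theorem x1_3_mem (u : F) : R.x1 3 u ∈ R.C1.U := ⟨0, u, 0, 0, by
  show _ = R.x1 0 0 * R.x1 3 u * R.x1 2 0 * R.x1 1 0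
  simp only [R.x1_zero, mul_one, one_mul]⟩
theorem x1_2_mem (u : F) : R.x1 2 u ∈ R.C1.U := ⟨0, 0, u, 0, by
  show _ = R.x1 0 0 * R.x1 3 0 * R.x1 2 u * R.x1 1 0
  simp only [R.x1_zero, mul_one, one_mul]⟩
theorem x1_1_mem (u : F) : R.x1 1 u ∈ R.C1.U := ⟨0, 0, 0, u, by
  show _ = R.x1 0 0 * R.x1 3 0 * R.x1 2 0 * R.x1 1 u
  simp only [R.x1_zero, one_mul]⟩

/-- `A1` is generated by the conjugates of its Sylow 2-subgroup -/
theorem gen (H : Subgroup G) (h : ∀ a ∈ R.A1, ∀ s ∈ R.C1.U, a * s * a⁻¹ ∈ H) : R.A1 ≤ H := by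
  rw [A1, closure_le]
  rintro _ ⟨i, u, rfl⟩
  have key : ∀ j : ZMod 8, j = 0 ∨ j = 1 ∨ j = 2 ∨ j = 3 ∨ j = 4 ∨ j = 5 ∨ j = 6 ∨ j = 7 := by decide
  have h1 : ∀ s ∈ R.C1.U, s ∈ H := by
    intro s hs
    have := h 1 (one_mem _) s hs
    rwa [one_mul, inv_one, mul_one] at this
  rcases key i with rfl | rfl | rfl | rfl | rfl | rfl | rfl | rfl
  · exact h1 _ (R.x1_0_mem u)
  · exact h1 _ (R.x1_1_mem u)
  · exact h1 _ (R.x1_2_mem u)
  · exact h1 _ (R.x1_3_mem u)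
  · have h2 := h _ R.n1a_mem _ (R.x1_0_mem u)
    rw [R.n1a_x1] at h2
    exact h2
  · have h2 := h _ (mul_mem R.n1a_mem R.n1b_mem) _ (R.x1_3_mem u)
    have e : R.n1a * R.n1b * R.x1 3 u * (R.n1a * R.n1b)⁻¹ = R.x1 (4 - (2 - 3)) u := by
      rw [← R.n1a_x1, ← R.n1b_x1]; group
    rw [e] at h2
    exact h2
  · have h2 := h _ (mul_mem R.n1b_mem R.n1a_mem) _ (R.x1_0_mem u)
    have e : R.n1b * R.n1a * R.x1 0 u * (R.n1b * R.n1a)⁻¹ = R.x1 (2 - (4 - 0)) u := by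
      rw [← R.n1b_x1, ← R.n1a_x1]; group
    rw [e] at h2
    exact h2
  · have h2 := h _ R.n1b_mem _ (R.x1_3_mem u)
    rw [R.n1b_x1] at h2
    exact h2

/-- **`A1` is perfect** -/
theorem perfect (hF : ∃ c : F, c ≠ 0 ∧ c ≠ 1) : ⁅R.A1, R.A1⁆ = R.A1 := by
  apply le_antisymm (commutator_le_self _)
  have hZ : R.C1.Z ≤ ⁅R.A1, R.A1⁆ :=
    (R.C1.comm_ge hF).trans (commutator_mono (R.C1.Ma_le.trans R.S1_le) (R.C1.Mb_le.trans R.S1_le))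
  have hn : ∀ a ∈ R.A1, ∀ x ∈ ⁅R.A1, R.A1⁆, a * x * a⁻¹ ∈ ⁅R.A1, R.A1⁆ := by
    intro a ha x hx
    have h1 : ⁅a, x⁆ ∈ ⁅R.A1, R.A1⁆ := commutator_mem_commutator ha (commutator_le_self _ hx)
    have h2 := mul_mem h1 hx
    rwa [commutatorElement_def, inv_mul_cancel_right] at h2
  have h1 : ∀ u, R.x1 1 u ∈ ⁅R.A1, R.A1⁆ := fun u => hZ ⟨0, u, by
    show _ = R.x1 0 0 * R.x1 3 0 * R.x1 2 0 * R.x1 1 u
    simp only [R.x1_zero, one_mul]⟩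
  have h2 : ∀ u, R.x1 2 u ∈ ⁅R.A1, R.A1⁆ := fun u => hZ ⟨u, 0, by
    show _ = R.x1 0 0 * R.x1 3 0 * R.x1 2 u * R.x1 1 0
    simp only [R.x1_zero, one_mul, mul_one]⟩
  have h0 : ∀ u, R.x1 0 u ∈ ⁅R.A1, R.A1⁆ := fun u => by
    have h3 := hn _ R.n1b_mem _ (h2 u)
    rw [R.n1b_x1] at h3
    exact h3
  have h3 : ∀ u, R.x1 3 u ∈ ⁅R.A1, R.A1⁆ := fun u => by
    have h3 := hn _ R.n1a_mem _ (h1 u)
    rw [R.n1a_x1] at h3
    exact h3
  apply R.gen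
  intro a ha s hs
  apply hn a ha
  obtain ⟨u, s, m, r, rfl⟩ := hs
  exact mul_mem (mul_mem (mul_mem (h0 _) (h3 _)) (h2 _)) (h1 _)

/-- `S1 ∩ S1 ^ t = 1` -/
theorem disj {s : G} (hs : s ∈ R.C1.U) (hs' : R.sw s ∈ R.C1.U) : s = 1 := by
  -- `s` is central in `S1`
  have hz : s ∈ R.C1.Z := by
    apply R.C1.mem_Z_of_comm hs
    intro x hx
    have h := R.comm_sw (R.S1_le hx) (R.S1_le hs')
    rw [sw_sw] at h
    exact h.eq.symm
  have hz' : R.sw s ∈ R.C1.Z := by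
    apply R.C1.mem_Z_of_comm hs'
    intro x hx
    exact (R.comm_sw (R.S1_le hx) (R.S1_le hs)).eq.symm
  obtain ⟨m, r, hz⟩ := hz
  obtain ⟨m', r', hz'⟩ := hz'
  -- `s s^t` is in `A` and in the first copy
  have hu1 : R.dl s = R.C1.el 0 0 (m + m') (r + r') := by
    rw [dl, hz', hz, R.C1.el_mul]
    congr 1 <;> ring
  have hu2 : R.dl (R.dl s) = 1 := by
    have h1 : R.dl s ∈ R.A1 := by
      rw [hu1]; exact R.S1_le ⟨_, _, _, _, rfl⟩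
    have h2 : R.sw (R.dl s) = R.dl s := R.sw_dl (R.S1_le hs)
    rw [dl, h2, hu1, R.C1.el_mul]
    rw [← R.C1.el_zero]
    congr 1
    · ring
    · ring
    · rw [zero_mul, add_zero, CharTwo.add_self_eq_zero]
    · rw [mul_zero, add_zero, CharTwo.add_self_eq_zero]
  have hu3 : R.dl s = 1 := by
    have h1 : ∀ m r, R.dl (R.C1.el 0 0 m r) = 1 → m = 0 ∧ r = 0 := by
      intro m r h
      have h2 := R.inj 0 0 m r (by
        show R.X 0 0 * R.X 3 0 * R.X 2 m * R.X 1 r = 1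
        rw [← R.dl_x1, ← R.dl_x1, ← R.dl_x1, ← R.dl_x1, ← R.dl_mul (R.x1_mem _ _) (R.x1_mem _ _),
          ← R.dl_mul (mul_mem (R.x1_mem _ _) (R.x1_mem _ _)) (R.x1_mem _ _),
          ← R.dl_mul (mul_mem (mul_mem (R.x1_mem _ _) (R.x1_mem _ _)) (R.x1_mem _ _)) (R.x1_mem _ _)]
        exact h)
      exact ⟨h2.2.2.1, h2.2.2.2⟩
    rw [hu1] at hu2 ⊢
    obtain ⟨h3, h4⟩ := h1 _ _ hu2
    rw [h3, h4, R.C1.el_zero]
  have h5 := R.inj 0 0 m r (by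
    show R.X 0 0 * R.X 3 0 * R.X 2 m * R.X 1 r = 1
    rw [← R.dl_x1, ← R.dl_x1, ← R.dl_x1, ← R.dl_x1, ← R.dl_mul (R.x1_mem _ _) (R.x1_mem _ _),
      ← R.dl_mul (mul_mem (R.x1_mem _ _) (R.x1_mem _ _)) (R.x1_mem _ _),
      ← R.dl_mul (mul_mem (mul_mem (R.x1_mem _ _) (R.x1_mem _ _)) (R.x1_mem _ _)) (R.x1_mem _ _)]
    rw [← hu3, hz]
    rfl)
  rw [hz, h5.2.2.1, h5.2.2.2, R.C1.el_zero]

/-- the centre of `A1` meets `S1` trivially -/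
theorem centre {s : G} (hs : s ∈ R.C1.U) (h : ∀ a ∈ R.A1, s * a = a * s) : s = 1 := by
  have hz : s ∈ R.C1.Z := R.C1.mem_Z_of_comm hs (fun x hx => h x (R.S1_le hx))
  obtain ⟨m, r, rfl⟩ := hz
  have h1 : R.n1b * R.C1.el 0 0 m r * R.n1b⁻¹ = R.C1.el m 0 0 r := by
    show R.n1b * (R.x1 0 0 * R.x1 3 0 * R.x1 2 m * R.x1 1 r) * R.n1b⁻¹ = R.x1 0 m * R.x1 3 0 * R.x1 2 0 * R.x1 1 r
    have e1 : R.n1b * R.x1 2 m * R.n1b⁻¹ = R.x1 0 m := R.n1b_x1 2 m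
    have e2 : R.n1b * R.x1 1 r * R.n1b⁻¹ = R.x1 1 r := R.n1b_x1 1 r
    simp only [R.x1_zero, one_mul, mul_one]
    rw [← e1]
    conv_rhs => rw [← e2]
    group
  have h2 : R.n1a * R.C1.el 0 0 m r * R.n1a⁻¹ = R.C1.el 0 r m 0 := by
    show R.n1a * (R.x1 0 0 * R.x1 3 0 * R.x1 2 m * R.x1 1 r) * R.n1a⁻¹ = R.x1 0 0 * R.x1 3 r * R.x1 2 m * R.x1 1 0
    have e1 : R.n1a * R.x1 2 m * R.n1a⁻¹ = R.x1 2 m := R.n1a_x1 2 m
    have e2 : R.n1a * R.x1 1 r * R.n1a⁻¹ = R.x1 3 r := R.n1a_x1 1 r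
    simp only [R.x1_zero, one_mul, mul_one]
    rw [← (R.c23 m r).eq, ← e2]
    conv_rhs => rw [← e1]
    group
  have c1 := h _ R.n1b_mem
  have c2 := h _ R.n1a_mem
  rw [← c1, mul_inv_cancel_right] at h1
  rw [← c2, mul_inv_cancel_right] at h2
  obtain ⟨e1, -, -, -⟩ := R.C1.el_inj h1
  obtain ⟨-, e2, -, -⟩ := R.C1.el_inj h2
  rw [← e1, ← e2, R.C1.el_zero]

/-- involutions of `S1` are conjugate into `Z` -/
theorem hoist' [Finite F] {x : G} (hx : x ∈ R.C1.U) (h2 : x * x = 1) : ∃ a ∈ R.A1, a⁻¹ * x * a ∈ R.C1.Z :=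
  R.C1.hoist R.S1_le R.n1a_mem R.n1b_mem (fun u => R.n1a_x 3 u) (fun u => R.n1a_x 2 u) (fun u => R.n1b_x 0 u)
    (fun u => R.n1b_x 1 u) hx h2

end charTwo

end Two8

end Cfsg.Agent.StdSpFour.SplitV
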