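import Cfsg.Agent.StdSpFour.SplitV.InstG
import Cfsg.Agent.StdRank2.B2Conn
import Cfsg.Agent.StdSpFour.XStart

/-!
# S1778, `Sp₄(q)`, case (A), split: the wreath situation and the package `Std (stdSp F) A`

* `liftStd` : packages lift through perfect central extensions of odd degree.
* `Two8.stdA1` : the package of `A1`, `UG (stdA1) = S1`.
* `wrG_U` : `W.U = UG S`.
-/

set_option autoImplicit false
set_option linter.unusedSectionVars false

namespace Cfsg.Agent.StdSpFour.SplitV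

open Subgroup Cfsg.Agent.StdSpFour.Lift Cfsg.Agent.StdEven.CoreQuot Cfsg.Agent.StdEven.Loc
open Cfsg.Agent.TitsThree.B2Pkg Cfsg.Agent.TitsThree.RankTwoIdentB2
  Cfsg.Agent.TitsThree.CoreB2 Cfsg.Agent.TitsThree.RankTwoIdx Cfsg.Agent.TitsThree.RankTwoRGD
  Cfsg.Agent.TitsThree.StdData
open Cfsg.Agent.StdRank2 Cfsg.Agent.StdRank2.OddLift Cfsg.Agent.StdRank2.B2Lift Cfsg.Agent.StdRank2.B2Std
open scoped commutatorElement

namespace InstU

universe u

section lift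

variable {F : Type*} [Field F] [CharP F 2] {L : Type u} [Group L] {K : Type*} [Group K] [Finite L]

theorem map_UU_lm {f : L →* K} (c : Cov f) {m : B2Maps (stdSp F) K} (h : B2Rel m) :
    (UU (lm c m)).map f = UU m := by
  rw [← B2Conn.map_UU, B2Lift.map_lm c h]

/-- **packages lift through perfect central extensions of odd degree** -/
noncomputable def liftStd {f : L →* K} (c : Cov f) (hL : _root_.commutator L = ⊤) (S : Std (stdSp F) K) :
    Std (stdSp F) L where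
  m := lm c S.m
  rel := B2Lift.rel c S.rel
  p₀ := S.p₀
  hp₀ := S.hp₀
  gen := B2Lift.gen c S.rel hL S.gen
  ndI := by
    obtain ⟨a, ha⟩ := S.ndI
    refine ⟨a, fun h => ha ?_⟩
    have h1 : f ((lm c S.m).x' a) ∈ (UU (lm c S.m)).map f := ⟨_, h, rfl⟩
    rw [map_UU_lm c S.rel] at h1
    rwa [show f ((lm c S.m).x' a) = S.m.x' a from map_lift c ((isTwo_all S.rel).2.1 a)] at h1
  ndJ := by
    obtain ⟨a, ha⟩ := S.ndJ
    refine ⟨a, fun h => ha ?_⟩
    have h1 : f ((lm c S.m).z₂' a) ∈ (UU (lm c S.m)).map f := ⟨_, h, rfl⟩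
    rw [map_UU_lm c S.rel] at h1
    rwa [show f ((lm c S.m).z₂' a) = S.m.z₂' a from map_lift c ((isTwo_all S.rel).2.2.2.2.2.2.2 a)] at h1

end lift

section A1

variable {F : Type*} [Field F] [CharP F 2] {G : Type u} [Group G] [Finite G] {R : Two8 F G} (hA : R.AF)
  {A : Subgroup G} (h : R.A = A)

/-- `a ↦ a a^t` -/
def dA (h : R.A = A) : ↥R.A1 →* ↥A := R.dlHom.codRestrict A (fun a => by rw [← h]; exact R.dl_mem a.2)

theorem dA_coe (a : ↥R.A1) : ((dA h a : ↥A) : G) = R.dl a := rfl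

include hA in
theorem cov : Cov (dA h) where
  surj := by
    rintro ⟨x, hx⟩
    rw [← h] at hx
    obtain ⟨a, ha, rfl⟩ := R.mem_A.1 hx
    exact ⟨⟨a, ha⟩, rfl⟩
  central := by
    rintro ⟨k, hk⟩ hker
    rw [mem_center_iff]
    rintro ⟨a, ha⟩
    exact Subtype.ext (Two8.ker_central hA hk (congrArg Subtype.val hker) a ha).eq.symm
  odd := by
    have : Fact (Nat.Prime 2) := ⟨Nat.prime_two⟩
    by_contra hodd
    rw [Nat.not_odd_iff_even, even_iff_two_dvd] at hodd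
    obtain ⟨⟨k, hker⟩, hk2⟩ := exists_prime_orderOf_dvd_card' 2 hodd
    have h1 : (k : G) * k = 1 := by
      have h2 := pow_orderOf_eq_one (⟨k, hker⟩ : (dA h).ker)
      rw [hk2, pow_two] at h2
      exact congrArg (fun z : (dA h).ker => ((z : ↥R.A1) : G)) h2
    have h3 : (k : G) = 1 := Two8.ker_sq hA k.2 (congrArg Subtype.val hker) h1
    have h4 : (⟨k, hker⟩ : (dA h).ker) = 1 := Subtype.ext (Subtype.ext h3)
    rw [h4, orderOf_one] at hk2
    omega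

theorem commutator_A1 (hF : 4 ≤ Nat.card F) (R : Two8 F G) : _root_.commutator ↥R.A1 = ⊤ := by
  apply map_injective R.A1.subtype_injective
  rw [_root_.commutator_def, map_commutator, ← MonoidHom.range_eq_map, R.A1.range_subtype,
    R.perfect (Two8.exists_ne hF)]

/-- **the package of `A1`** -/
noncomputable def stdA1 (hF : 4 ≤ Nat.card F) (S : Std (stdSp F) ↥A) : Std (stdSp F) ↥R.A1 :=
  liftStd (cov hA h) (commutator_A1 hF R) S

/-- the root elements of `A1` -/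
theorem dl_stdA1 {g : ↥A} (hg : IsTwo g) :
    R.dl (lift (cov hA h) g : ↥R.A1) = g := congrArg Subtype.val (map_lift (cov hA h) hg)

theorem two_U {s : G} (hs : s ∈ R.C1.U) : s ^ 2 ^ 2 = 1 := by
  obtain ⟨u, v, w, r, rfl⟩ := hs
  have h4 : (R.C1.el u v w r) ^ 2 ^ 2 = (R.C1.el u v w r * R.C1.el u v w r) * (R.C1.el u v w r * R.C1.el u v w r) := by
    norm_num [pow_succ]; group
  rw [h4, R.C1.el_sq, R.C1.el_sq]
  simp only [mul_zero]
  exact R.C1.el_zero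

/-- **`UG (stdA1) = S1`** -/
theorem UG_stdA1 (hF : 4 ≤ Nat.card F) (S : Std (stdSp F) ↥A)
    (hU : ∀ x, x ∈ XStart.UG S ↔ ∃ s ∈ R.C1.U, x = R.dl s) : XStart.UG (stdA1 hA h hF S) = R.C1.U := by
  have c := cov hA h
  have hmap : (UU (lm c S.m)).map (dA h) = UU S.m := map_UU_lm c S.rel
  ext x
  constructor
  · rintro ⟨v, hv, rfl⟩
    have h1 : dA h v ∈ UU S.m := by rw [← hmap]; exact ⟨v, hv, rfl⟩
    obtain ⟨s, hs, e⟩ := (hU (R.dl v)).1 ⟨_, h1, rfl⟩
    have h2 : v = ⟨s, R.S1_le hs⟩ := by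
      apply OddLift.inj c (isTwo_of_mem_UU (B2Lift.rel c S.rel) hv)
      · exact ⟨2, Subtype.ext (two_U hs)⟩
      · exact Subtype.ext e
    rw [h2]
    exact hs
  · intro hx
    obtain ⟨y, hy, e⟩ := (hU (R.dl x)).2 ⟨x, hx, rfl⟩
    have hy' : y ∈ (UU (lm c S.m)).map (dA h) := by rw [hmap]; exact hy
    obtain ⟨v, hv, rfl⟩ := hy'
    have h2 : v = ⟨x, R.S1_le hx⟩ := by
      apply OddLift.inj c (isTwo_of_mem_UU (B2Lift.rel c S.rel) hv)
      · exact ⟨2, Subtype.ext (two_U hx)⟩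
      · exact Subtype.ext e
    exact ⟨v, hv, by rw [h2]; rfl⟩

end A1

section G

variable {F : Type*} [Field F] [CharP F 2] [Finite F] {G : Type u} [Group G] [Finite G]
  {A : Subgroup G} {t : G} {T : Subgroup G} (H : Hyp A t T) (S : Std (stdSp F) ↥A)
  (E : Env (B2Conn.base H S) (im A t A)) (R : RingA (B2Conn.base H S) 0 0 0) (hF : 4 ≤ Nat.card F)

/-- the root elements of the package -/
theorem X_eq (u s m r : F) :
    (InstG.RG H E (B2Conn.base_t H S) R hF).dl ((InstG.RG H E (B2Conn.base_t H S) R hF).C1.el u s m r) =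
      ((S.m.x u * S.m.z₂ (SpFrame.tt s) * S.m.y m * S.m.z₁ (SpFrame.tt r) : ↥A) : G) := by
  set RG := InstG.RG H E (B2Conn.base_t H S) R hF with hRG
  set v : ↥A := S.m.x u * S.m.z₂ (SpFrame.tt s) * S.m.y m * S.m.z₁ (SpFrame.tt r) with hv
  have hs : RG.C1.el u s m r ∈ RG.C1.U := ⟨_, _, _, _, rfl⟩
  have hA1 : RG.dl (RG.C1.el u s m r) ∈ A := InstG.RG_A_le H E (B2Conn.base_t H S) R hF (RG.dl_mem (RG.S1_le hs))
  have hv2 : IsTwo v := by
    rw [hv, SpFrame.eq_nf]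
    exact isTwo_of_mem_UU S.rel (nf_mem _ _ _ _)
  have h4 : (⟨RG.dl (RG.C1.el u s m r), H.A_le hA1⟩ : ↥(NO A t)) = ⟨v, H.A_le v.2⟩ := by
    apply unique (pr A t) H.odd_ker (A_mem_C H hA1)
    · refine ⟨2, Subtype.ext ?_⟩
      show (RG.dl (RG.C1.el u s m r)) ^ 2 ^ 2 = 1
      have hm := RG.S1_le hs
      have h4 : (RG.dl (RG.C1.el u s m r)) ^ 2 ^ 2 = (RG.dl (RG.C1.el u s m r) * RG.dl (RG.C1.el u s m r)) *
          (RG.dl (RG.C1.el u s m r) * RG.dl (RG.C1.el u s m r)) := by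
        norm_num [pow_succ]; group
      rw [h4, ← RG.dl_mul hm hm, ← RG.dl_mul (mul_mem hm hm) (mul_mem hm hm), RG.C1.el_sq, RG.C1.el_sq]
      simp only [mul_zero]
      rw [RG.C1.el_zero, RG.dl_one]
    · obtain ⟨k, hk⟩ := hv2
      have hk' : (v : G) ^ 2 ^ k = 1 := congrArg Subtype.val hk
      exact ⟨k, Subtype.ext hk'⟩
    · rw [InstG.pr_dl_el]
      have e : (⟨(v : G), H.A_le v.2⟩ : ↥(NO A t)) = ⟨S.m.x u, H.A_le (S.m.x u).2⟩ *
          ⟨S.m.z₂ (SpFrame.tt s), H.A_le (S.m.z₂ (SpFrame.tt s)).2⟩ * ⟨S.m.y m, H.A_le (S.m.y m).2⟩ *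
          ⟨S.m.z₁ (SpFrame.tt r), H.A_le (S.m.z₁ (SpFrame.tt r)).2⟩ := rfl
      rw [e, map_mul, map_mul, map_mul]
      rfl
  exact congrArg Subtype.val h4

/-- `UG S = {s s^t : s ∈ S1}` -/
theorem mem_UG (x : G) : x ∈ XStart.UG S ↔ ∃ s ∈ (InstG.RG H E (B2Conn.base_t H S) R hF).C1.U,
    x = (InstG.RG H E (B2Conn.base_t H S) R hF).dl s := by
  constructor
  · rintro ⟨v, hv, rfl⟩
    obtain ⟨a, p, b, q, rfl⟩ := exists_nf S.rel hv
    refine ⟨_, ⟨a, q.c, b, p.c, rfl⟩, ?_⟩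
    rw [X_eq, SpFrame.eq_nf, ← SpFrame.eq_tt, ← SpFrame.eq_tt]
    rfl
  · rintro ⟨s, ⟨u, s, m, r, rfl⟩, rfl⟩
    rw [X_eq, SpFrame.eq_nf]
    exact ⟨_, nf_mem _ _ _ _, rfl⟩

/-- **`W.U = UG S`** -/
theorem wrG_U : (InstG.wrG H E (B2Conn.base_t H S) R hF).U = XStart.UG S := by
  ext x
  rw [mem_UG H S E R hF]
  exact Iff.rfl

/-- **the package of `W.A1` in `G`** -/
noncomputable def std1 : Std (stdSp F) ↥(InstG.wrG H E (B2Conn.base_t H S) R hF).A1 :=
  stdA1 (InstG.af H E (B2Conn.base_t H S) R hF) (InstG.RG_A H E (B2Conn.base_t H S) R hF) hF S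

/-- **`UG (std1) = W.S1`** -/
theorem UG_std1 : XStart.UG (std1 H S E R hF) = (InstG.wrG H E (B2Conn.base_t H S) R hF).S1 :=
  UG_stdA1 _ _ hF S (mem_UG H S E R hF)

end G

end InstU

end Cfsg.Agent.StdSpFour.SplitV
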