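import Cfsg.Agent.StdSpFour.SplitV.Grp
import Cfsg.Agent.StdSpFour.RingAE
import Cfsg.Agent.StdSpFour.Env

/-!
# S1778, `Sp₄(q)`, case (A), split: the system of root groups in `X`
-/

set_option autoImplicit false
set_option linter.unusedSectionVars false

namespace Cfsg.Agent.StdSpFour.SplitV

open Subgroup
open Cfsg.Agent.StdSpFour.Comm

namespace InstX

variable {F G : Type*} [Field F] [CharP F 2] [Group G] {B : Base F G}

/-- the eight families -/
def fam (B : Base F G) (pa pb ps pl : F → G) : Fin 8 → F → G :=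
  ![pa, pl, ps, pb, fun u => B.na * pa u * B.na, fun u => B.na * (B.nb * pb u * B.nb) * B.na,
    fun u => B.nb * (B.na * pa u * B.na) * B.nb, fun u => B.nb * pb u * B.nb]

section mk

variable (W : Weyl B) {pa pb ps pl : F → G}
  (ha : ∀ u v, pa (u + v) = pa u * pa v) (hb : ∀ u v, pb (u + v) = pb u * pb v)
  (hs : ∀ u v, ps (u + v) = ps u * ps v) (hl : ∀ u v, pl (u + v) = pl u * pl v)
  (nb_pa : ∀ u, B.nb * pa u = ps u * B.nb) (nb_ps : ∀ u, B.nb * ps u = pa u * B.nb)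
  (nb_pl : ∀ u, B.nb * pl u = pl u * B.nb) (na_pb : ∀ u, B.na * pb u = pl u * B.na)
  (na_pl : ∀ u, B.na * pl u = pb u * B.na) (na_ps : ∀ u, B.na * ps u = ps u * B.na)

include W

theorem na_na (x : G) : B.na * (B.na * x) = x := by rw [← mul_assoc, W.na_sq, one_mul]
theorem nb_nb (x : G) : B.nb * (B.nb * x) = x := by rw [← mul_assoc, W.nb_sq, one_mul]

theorem braid : B.na * B.nb * B.na * B.nb = B.nb * B.na * B.nb * B.na := by
  have h := W.braid
  have h1 : (B.na * B.nb * B.na * B.nb) * (B.na * B.nb * B.na * B.nb) = 1 := by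
    rw [← h, pow_succ, pow_succ, pow_succ, pow_one]; group
  have ia : B.na⁻¹ = B.na := inv_eq_of_mul_eq_one_right W.na_sq
  have ib : B.nb⁻¹ = B.nb := inv_eq_of_mul_eq_one_right W.nb_sq
  have h2 := eq_inv_of_mul_eq_one_left h1
  rw [h2]
  simp only [mul_inv_rev, ia, ib]
  group

theorem fam_add (ha : ∀ u v, pa (u + v) = pa u * pa v) (hb : ∀ u v, pb (u + v) = pb u * pb v)
    (hs : ∀ u v, ps (u + v) = ps u * ps v) (hl : ∀ u v, pl (u + v) = pl u * pl v) (i : Fin 8) (u v : F) :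
    fam B pa pb ps pl i (u + v) = fam B pa pb ps pl i u * fam B pa pb ps pl i v := by
  fin_cases i
  · exact ha u v
  · exact hl u v
  · exact hs u v
  · exact hb u v
  · show B.na * pa (u + v) * B.na = B.na * pa u * B.na * (B.na * pa v * B.na)
    rw [ha]
    calc B.na * (pa u * pa v) * B.na = B.na * pa u * 1 * (pa v * B.na) := by group
      _ = B.na * pa u * (B.na * B.na) * (pa v * B.na) := by rw [W.na_sq]
      _ = _ := by group
  · show B.na * (B.nb * pb (u + v) * B.nb) * B.na =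
      B.na * (B.nb * pb u * B.nb) * B.na * (B.na * (B.nb * pb v * B.nb) * B.na)
    rw [hb]
    calc B.na * (B.nb * (pb u * pb v) * B.nb) * B.na = B.na * B.nb * pb u * 1 * (pb v * B.nb * B.na) := by group
      _ = B.na * B.nb * pb u * (B.nb * B.nb) * (pb v * B.nb * B.na) := by rw [W.nb_sq]
      _ = B.na * B.nb * pb u * B.nb * 1 * B.nb * (pb v * B.nb * B.na) := by group
      _ = B.na * B.nb * pb u * B.nb * (B.na * B.na) * B.nb * (pb v * B.nb * B.na) := by rw [W.na_sq]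
      _ = _ := by group
  · show B.nb * (B.na * pa (u + v) * B.na) * B.nb =
      B.nb * (B.na * pa u * B.na) * B.nb * (B.nb * (B.na * pa v * B.na) * B.nb)
    rw [ha]
    calc B.nb * (B.na * (pa u * pa v) * B.na) * B.nb = B.nb * B.na * pa u * 1 * (pa v * B.na * B.nb) := by group
      _ = B.nb * B.na * pa u * (B.na * B.na) * (pa v * B.na * B.nb) := by rw [W.na_sq]
      _ = B.nb * B.na * pa u * B.na * 1 * B.na * (pa v * B.na * B.nb) := by group
      _ = B.nb * B.na * pa u * B.na * (B.nb * B.nb) * B.na * (pa v * B.na * B.nb) := by rw [W.nb_sq]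
      _ = _ := by group
  · show B.nb * pb (u + v) * B.nb = B.nb * pb u * B.nb * (B.nb * pb v * B.nb)
    rw [hb]
    calc B.nb * (pb u * pb v) * B.nb = B.nb * pb u * 1 * (pb v * B.nb) := by group
      _ = B.nb * pb u * (B.nb * B.nb) * (pb v * B.nb) := by rw [W.nb_sq]
      _ = _ := by group

/-- `x_{-(a+b)}` commutes with `na` -/
theorem na_6 (nb_ps : ∀ u, B.nb * ps u = pa u * B.nb) (na_ps : ∀ u, B.na * ps u = ps u * B.na) (u : F) :
    B.na * (B.nb * (B.na * pa u * B.na) * B.nb) = B.nb * (B.na * pa u * B.na) * B.nb * B.na := by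
  have hbr := braid W
  have e1 : pa u = B.nb * ps u * B.nb := by rw [nb_ps, mul_assoc, W.nb_sq, mul_one]
  have e2 : B.na * ps u * B.na = ps u := by rw [na_ps, mul_assoc, W.na_sq, mul_one]
  have e3 : B.na * B.nb * B.na * B.nb * ps u * (B.nb * B.na * B.nb * B.na) =
      B.nb * B.na * B.nb * ps u * (B.nb * B.na * B.nb) := by
    have h1 : B.na * B.nb * B.na * B.nb * ps u * (B.nb * B.na * B.nb * B.na) =
        B.nb * B.na * B.nb * B.na * ps u * (B.na * B.nb * B.na * B.nb) := by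
      conv_rhs => rw [hbr]
      rw [hbr]
    rw [h1]
    calc B.nb * B.na * B.nb * B.na * ps u * (B.na * B.nb * B.na * B.nb)
        = B.nb * B.na * B.nb * (B.na * ps u * B.na) * (B.nb * B.na * B.nb) := by group
      _ = _ := by rw [e2]
  calc B.na * (B.nb * (B.na * pa u * B.na) * B.nb)
      = B.na * B.nb * B.na * (B.nb * ps u * B.nb) * B.na * B.nb := by rw [e1]; group
    _ = (B.na * B.nb * B.na * B.nb * ps u * (B.nb * B.na * B.nb * B.na)) * (B.na⁻¹) := by group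
    _ = (B.nb * B.na * B.nb * ps u * (B.nb * B.na * B.nb)) * B.na⁻¹ := by rw [e3]
    _ = _ := by
      have ia : B.na⁻¹ = B.na := inv_eq_of_mul_eq_one_right W.na_sq
      rw [ia, e1]; group

/-- `x_{-(2a+b)}` commutes with `nb` -/
theorem nb_5 (na_pl : ∀ u, B.na * pl u = pb u * B.na) (nb_pl : ∀ u, B.nb * pl u = pl u * B.nb) (u : F) :
    B.nb * (B.na * (B.nb * pb u * B.nb) * B.na) = B.na * (B.nb * pb u * B.nb) * B.na * B.nb := by
  have hbr := braid W
  have e1 : pb u = B.na * pl u * B.na := by rw [na_pl, mul_assoc, W.na_sq, mul_one]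
  have e2 : B.nb * pl u * B.nb = pl u := by rw [nb_pl, mul_assoc, W.nb_sq, mul_one]
  have e3 : B.nb * B.na * B.nb * B.na * pl u * (B.na * B.nb * B.na * B.nb) =
      B.na * B.nb * B.na * pl u * (B.na * B.nb * B.na) := by
    have h1 : B.na * B.nb * B.na * B.nb * pl u * (B.nb * B.na * B.nb * B.na) =
        B.na * B.nb * B.na * (B.nb * pl u * B.nb) * (B.na * B.nb * B.na) := by group
    rw [e2] at h1
    rw [← h1, hbr]
  calc B.nb * (B.na * (B.nb * pb u * B.nb) * B.na)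
      = B.nb * B.na * B.nb * (B.na * pl u * B.na) * B.nb * B.na := by rw [e1]; group
    _ = (B.nb * B.na * B.nb * B.na * pl u * (B.na * B.nb * B.na * B.nb)) * (B.nb⁻¹) := by group
    _ = (B.na * B.nb * B.na * pl u * (B.na * B.nb * B.na)) * B.nb⁻¹ := by rw [e3]
    _ = _ := by
      have ib : B.nb⁻¹ = B.nb := inv_eq_of_mul_eq_one_right W.nb_sq
      rw [ib, e1]; group

theorem fam_na (na_pb : ∀ u, B.na * pb u = pl u * B.na)
  (na_pl : ∀ u, B.na * pl u = pb u * B.na) (na_ps : ∀ u, B.na * ps u = ps u * B.na)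
    (nb_ps : ∀ u, B.nb * ps u = pa u * B.nb) (i : ZMod 8) (u : F) :
    B.na * fam B pa pb ps pl i u = fam B pa pb ps pl (4 - i : ZMod 8) u * B.na := by
  have key : ∀ j : ZMod 8, j = 0 ∨ j = 1 ∨ j = 2 ∨ j = 3 ∨ j = 4 ∨ j = 5 ∨ j = 6 ∨ j = 7 := by decide
  rcases key i with rfl | rfl | rfl | rfl | rfl | rfl | rfl | rfl
  · show B.na * pa u = B.na * pa u * B.na * B.na
    rw [mul_assoc (B.na * pa u), W.na_sq, mul_one]
  · exact na_pl u
  · exact na_ps u
  · exact na_pb u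
  · show B.na * (B.na * pa u * B.na) = pa u * B.na
    rw [mul_assoc, na_na W]
  · show B.na * (B.na * (B.nb * pb u * B.nb) * B.na) = B.nb * pb u * B.nb * B.na
    rw [mul_assoc, na_na W]
  · exact na_6 W nb_ps na_ps u
  · show B.na * (B.nb * pb u * B.nb) = B.na * (B.nb * pb u * B.nb) * B.na * B.na
    rw [mul_assoc (B.na * (B.nb * pb u * B.nb)), W.na_sq, mul_one]

theorem fam_nb (nb_pa : ∀ u, B.nb * pa u = ps u * B.nb) (nb_ps : ∀ u, B.nb * ps u = pa u * B.nb)
  (nb_pl : ∀ u, B.nb * pl u = pl u * B.nb) (na_pl : ∀ u, B.na * pl u = pb u * B.na) (i : ZMod 8) (u : F) :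
    B.nb * fam B pa pb ps pl i u = fam B pa pb ps pl (2 - i : ZMod 8) u * B.nb := by
  have key : ∀ j : ZMod 8, j = 0 ∨ j = 1 ∨ j = 2 ∨ j = 3 ∨ j = 4 ∨ j = 5 ∨ j = 6 ∨ j = 7 := by decide
  rcases key i with rfl | rfl | rfl | rfl | rfl | rfl | rfl | rfl
  · exact nb_pa u
  · exact nb_pl u
  · exact nb_ps u
  · show B.nb * pb u = B.nb * pb u * B.nb * B.nb
    rw [mul_assoc (B.nb * pb u), W.nb_sq, mul_one]
  · show B.nb * (B.na * pa u * B.na) = B.nb * (B.na * pa u * B.na) * B.nb * B.nb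
    rw [mul_assoc (B.nb * (B.na * pa u * B.na)), W.nb_sq, mul_one]
  · exact nb_5 W na_pl nb_pl u
  · show B.nb * (B.nb * (B.na * pa u * B.na) * B.nb) = B.na * pa u * B.na * B.nb
    rw [mul_assoc, nb_nb W]
  · show B.nb * (B.nb * pb u * B.nb) = pb u * B.nb
    rw [mul_assoc, nb_nb W]

end mk

variable (R : RingA B 0 0 0)

/-- the second copy over a positive root group -/
theorem conj_t {p x : G} (h : B.t * p = p * B.t * x) (h' : Commute B.t x) : B.t * p * B.t = p * x := by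
  rw [h, mul_assoc _ x B.t, ← h'.eq, ← mul_assoc, mul_assoc p B.t B.t, B.tt, mul_one]

theorem t_pa (u : F) : B.t * R.pa u * B.t = R.pa u * B.xa u := conj_t (R.t_pa u) (B.t_xa u)
theorem t_pb (u : F) : B.t * R.pb u * B.t = R.pb u * B.xb u := conj_t (R.t_pb u) (B.t_xb u)
theorem t_ps (u : F) : B.t * R.ps u * B.t = R.ps u * B.zs u := conj_t (R.t_ps u) (B.t_zs u)
theorem t_pl (u : F) : B.t * R.pl u * B.t = R.pl u * B.zl u := conj_t (R.t_pl u) (B.t_zl u)

theorem xa_pa (u : F) : R.pa u * (R.pa u * B.xa u) = B.xa u := by rw [← mul_assoc, R.pa_sq, one_mul]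
theorem xb_pb (u : F) : R.pb u * (R.pb u * B.xb u) = B.xb u := by rw [← mul_assoc, R.pb_sq, one_mul]
theorem zs_ps (u : F) : R.ps u * (R.ps u * B.zs u) = B.zs u := by rw [← mul_assoc, R.ps_sq, one_mul]
theorem zl_pl (u : F) : R.pl u * (R.pl u * B.zl u) = B.zl u := by rw [← mul_assoc, R.pl_sq, one_mul]

theorem pa_pb' (u s : F) : R.pa u * R.pb s = R.pb s * (R.pa u * (R.ps (u * s) * R.pl (u ^ 2 * s))) := by
  have h := R.pa_pb u s
  rw [add_zero, one_mul, zero_mul, zero_mul, B.zs_zero, B.zl_zero, mul_one, mul_one] at h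
  exact h

theorem pa_xb' (u s : F) : R.pa u * B.xb s = B.xb s * (R.pa u * (R.ps (u * s) * R.pl (u ^ 2 * s))) := by
  have h := R.pa_xb u s
  rw [zero_mul, B.zl_zero, mul_one] at h
  exact h

/-- `[x_a¹, x_b²] = 1` -/
theorem d03 (u v : F) : Commute (R.pa u) (R.pb v * B.xb v) := by
  show R.pa u * (R.pb v * B.xb v) = R.pb v * B.xb v * R.pa u
  set ζ := R.ps (u * v) * R.pl (u ^ 2 * v) with hζ
  have c1 : Commute ζ (B.xb v) := (R.ps_xb _ _).mul_left (R.pl_xb _ _)
  have z2 : ζ * ζ = 1 := by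
    have hc := (R.ps_pl (u * v) (u ^ 2 * v)).eq
    rw [hζ]
    calc R.ps (u * v) * R.pl (u ^ 2 * v) * (R.ps (u * v) * R.pl (u ^ 2 * v))
        = R.ps (u * v) * (R.pl (u ^ 2 * v) * R.ps (u * v)) * R.pl (u ^ 2 * v) := by group
      _ = R.ps (u * v) * (R.ps (u * v) * R.pl (u ^ 2 * v)) * R.pl (u ^ 2 * v) := by rw [hc]
      _ = (R.ps (u * v) * R.ps (u * v)) * (R.pl (u ^ 2 * v) * R.pl (u ^ 2 * v)) := by group
      _ = 1 := by rw [R.ps_sq, R.pl_sq, one_mul]
  calc R.pa u * (R.pb v * B.xb v) = (R.pa u * R.pb v) * B.xb v := by group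
    _ = R.pb v * R.pa u * (ζ * B.xb v) := by rw [pa_pb' R, ← hζ]; group
    _ = R.pb v * (R.pa u * B.xb v) * ζ := by rw [c1.eq]; group
    _ = R.pb v * B.xb v * R.pa u * (ζ * ζ) := by rw [pa_xb' R, ← hζ]; group
    _ = _ := by rw [z2, mul_one]

/-- **the system of root groups in `X`** -/
def two8 (W : Weyl B) : Two8 F G where
  t := B.t
  na := B.na
  nb := B.nb
  x1 := fam B R.pa R.pb R.ps R.pl
  tt := B.tt
  t_na := B.t_na
  t_nb := B.t_nb
  add := fam_add W R.pa_add R.pb_add R.ps_add R.pl_add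
  na_x := fam_na W R.na_pb R.na_pl R.na_ps R.nb_ps
  nb_x := fam_nb W R.nb_pa R.nb_ps R.nb_pl R.na_pl
  c01 := fun u v => R.pa_pl u v
  c02 := fun u v => R.pa_ps u v
  c12 := fun u v => (R.ps_pl v u).symm
  c13 := fun u v => (R.pb_pl v u).symm
  c23 := fun u v => (R.pb_ps v u).symm
  c03 := by
    intro u s
    show R.pa u * R.pb s = R.pb s * R.pa u * R.ps (u * s) * R.pl (u ^ 2 * s)
    rw [pa_pb' R]; group
  d00 := by
    intro u v
    show Commute (R.pa u) (B.t * R.pa v * B.t)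
    rw [t_pa]
    exact (R.pa_pa u v).mul_right (R.pa_xa u v)
  d01 := by
    intro u v
    show Commute (R.pa u) (B.t * R.pl v * B.t)
    rw [t_pl]
    exact (R.pa_pl u v).mul_right (R.pa_zl u v)
  d02 := by
    intro u v
    show Commute (R.pa u) (B.t * R.ps v * B.t)
    rw [t_ps]
    exact (R.pa_ps u v).mul_right (R.pa_zs u v)
  d03 := by
    intro u v
    show Commute (R.pa u) (B.t * R.pb v * B.t)
    rw [t_pb]
    exact d03 R u v
  d11 := by
    intro u v
    show Commute (R.pl u) (B.t * R.pl v * B.t)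
    rw [t_pl]
    exact (R.pl_pl u v).mul_right (R.pl_zl u v)
  d12 := by
    intro u v
    show Commute (R.pl u) (B.t * R.ps v * B.t)
    rw [t_ps]
    exact (R.ps_pl v u).symm.mul_right (R.pl_zs u v)
  d13 := by
    intro u v
    show Commute (R.pl u) (B.t * R.pb v * B.t)
    rw [t_pb]
    exact (R.pb_pl v u).symm.mul_right (R.pl_xb u v)
  inj := by
    intro u s m r h
    change R.pa u * (B.t * R.pa u * B.t) * (R.pb s * (B.t * R.pb s * B.t)) * (R.ps m * (B.t * R.ps m * B.t)) *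
      (R.pl r * (B.t * R.pl r * B.t)) = 1 at h
    rw [t_pa, t_pb, t_ps, t_pl, xa_pa, xb_pb, zs_ps, zl_pl] at h
    exact B.inj u s m r h
  na_eq := by
    change B.na = R.pa 1 * (B.t * R.pa 1 * B.t) * (B.na * R.pa 1 * B.na * (B.t * (B.na * R.pa 1 * B.na) * B.t)) *
      (R.pa 1 * (B.t * R.pa 1 * B.t))
    have e1 : B.t * (B.na * R.pa 1 * B.na) * B.t = B.na * (B.t * R.pa 1 * B.t) * B.na := by
      have h := B.t_na.eq
      calc B.t * (B.na * R.pa 1 * B.na) * B.t = (B.t * B.na) * R.pa 1 * (B.na * B.t) := by group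
        _ = (B.na * B.t) * R.pa 1 * (B.t * B.na) := by rw [h]
        _ = _ := by group
    have e2 : B.na * R.pa 1 * B.na * (B.na * (R.pa 1 * B.xa 1) * B.na) = B.na * B.xa 1 * B.na := by
      calc B.na * R.pa 1 * B.na * (B.na * (R.pa 1 * B.xa 1) * B.na)
          = B.na * R.pa 1 * (B.na * B.na) * (R.pa 1 * B.xa 1) * B.na := by group
        _ = B.na * (R.pa 1 * (R.pa 1 * B.xa 1)) * B.na := by rw [W.na_sq]; group
        _ = _ := by rw [xa_pa]
    rw [e1, t_pa, e2, xa_pa]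
    have h := W.na_xa
    have ia : B.na⁻¹ = B.na := inv_eq_of_mul_eq_one_right W.na_sq
    have ix : (B.xa 1)⁻¹ = B.xa 1 := inv_eq_of_mul_eq_one_right (B.xa_xa 1)
    have h1 : (B.na * B.xa 1 * B.na) * (B.xa 1 * B.na * B.xa 1) = 1 := by
      rw [← h, pow_succ, pow_two]; group
    have h2 : (B.na * B.xa 1 * B.na) = (B.xa 1 * B.na * B.xa 1)⁻¹ := eq_inv_of_mul_eq_one_left h1
    rw [h2, mul_inv_rev, mul_inv_rev, ix, ia]
    calc B.na = (B.xa 1 * B.xa 1) * B.na * (B.xa 1 * B.xa 1) := by rw [B.xa_xa, one_mul, mul_one]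
      _ = _ := by group
  nb_eq := by
    change B.nb = R.pb 1 * (B.t * R.pb 1 * B.t) * (B.nb * R.pb 1 * B.nb * (B.t * (B.nb * R.pb 1 * B.nb) * B.t)) *
      (R.pb 1 * (B.t * R.pb 1 * B.t))
    have e1 : B.t * (B.nb * R.pb 1 * B.nb) * B.t = B.nb * (B.t * R.pb 1 * B.t) * B.nb := by
      have h := B.t_nb.eq
      calc B.t * (B.nb * R.pb 1 * B.nb) * B.t = (B.t * B.nb) * R.pb 1 * (B.nb * B.t) := by group
        _ = (B.nb * B.t) * R.pb 1 * (B.t * B.nb) := by rw [h]
        _ = _ := by group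
    have e2 : B.nb * R.pb 1 * B.nb * (B.nb * (R.pb 1 * B.xb 1) * B.nb) = B.nb * B.xb 1 * B.nb := by
      calc B.nb * R.pb 1 * B.nb * (B.nb * (R.pb 1 * B.xb 1) * B.nb)
          = B.nb * R.pb 1 * (B.nb * B.nb) * (R.pb 1 * B.xb 1) * B.nb := by group
        _ = B.nb * (R.pb 1 * (R.pb 1 * B.xb 1)) * B.nb := by rw [W.nb_sq]; group
        _ = _ := by rw [xb_pb]
    rw [e1, t_pb, e2, xb_pb]
    have h := W.nb_xb
    have ia : B.nb⁻¹ = B.nb := inv_eq_of_mul_eq_one_right W.nb_sq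
    have ix : (B.xb 1)⁻¹ = B.xb 1 := inv_eq_of_mul_eq_one_right (B.xb_xb 1)
    have h1 : (B.nb * B.xb 1 * B.nb) * (B.xb 1 * B.nb * B.xb 1) = 1 := by
      rw [← h, pow_succ, pow_two]; group
    have h2 : (B.nb * B.xb 1 * B.nb) = (B.xb 1 * B.nb * B.xb 1)⁻¹ := eq_inv_of_mul_eq_one_left h1
    rw [h2, mul_inv_rev, mul_inv_rev, ix, ia]
    calc B.nb = (B.xb 1 * B.xb 1) * B.nb * (B.xb 1 * B.xb 1) := by rw [B.xb_xb, one_mul, mul_one]
      _ = _ := by group

end InstX

end Cfsg.Agent.StdSpFour.SplitV
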