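import Cfsg.Agent.StdSpFour.Base
import Mathlib.Data.ZMod.Basic
import Mathlib.Tactic.Group
import Mathlib.Tactic.Ring
import Mathlib.Algebra.CharP.Two
import Mathlib.Algebra.Group.Subgroup.Pointwise
import Mathlib.GroupTheory.Subgroup.Centralizer

/-!
# S1778, `Sp₄(q)`, case (A), split: two commuting copies

`Two8 F G`: eight root groups `x1 i u`, `i ∈ ZMod 8` (`0 = a`, `1 = 2a+b`, `2 = a+b`, `3 = b`, `i + 4 = -i`),
permuted by `na` (`i ↦ 4 - i`) and `nb` (`i ↦ 2 - i`); an involution `t` such that the positive root groups commute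
with their conjugates under `t`.  Results: all root groups commute with the `t`-conjugates of all root groups.
-/

set_option autoImplicit false

namespace Cfsg.Agent.StdSpFour.SplitV

/-- The system of root groups. -/
structure Two8 (F G : Type*) [Field F] [Group G] where
  t : G
  na : G
  nb : G
  x1 : ZMod 8 → F → G
  tt : t * t = 1
  t_na : Commute t na
  t_nb : Commute t nb
  add : ∀ i u v, x1 i (u + v) = x1 i u * x1 i v
  na_x : ∀ i u, na * x1 i u = x1 (4 - i) u * na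
  nb_x : ∀ i u, nb * x1 i u = x1 (2 - i) u * nb
  c01 : ∀ u v, Commute (x1 0 u) (x1 1 v)
  c02 : ∀ u v, Commute (x1 0 u) (x1 2 v)
  c12 : ∀ u v, Commute (x1 1 u) (x1 2 v)
  c13 : ∀ u v, Commute (x1 1 u) (x1 3 v)
  c23 : ∀ u v, Commute (x1 2 u) (x1 3 v)
  c03 : ∀ u s, x1 0 u * x1 3 s = x1 3 s * x1 0 u * x1 2 (u * s) * x1 1 (u ^ 2 * s)
  /-- the positive root groups commute with the `t`-conjugates of the positive root groups -/
  d00 : ∀ u v, Commute (x1 0 u) (t * x1 0 v * t)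
  d01 : ∀ u v, Commute (x1 0 u) (t * x1 1 v * t)
  d02 : ∀ u v, Commute (x1 0 u) (t * x1 2 v * t)
  d03 : ∀ u v, Commute (x1 0 u) (t * x1 3 v * t)
  d11 : ∀ u v, Commute (x1 1 u) (t * x1 1 v * t)
  d12 : ∀ u v, Commute (x1 1 u) (t * x1 2 v * t)
  d13 : ∀ u v, Commute (x1 1 u) (t * x1 3 v * t)
  /-- the diagonal is injective -/
  inj : ∀ u s m r, x1 0 u * (t * x1 0 u * t) * (x1 3 s * (t * x1 3 s * t)) * (x1 2 m * (t * x1 2 m * t)) *
    (x1 1 r * (t * x1 1 r * t)) = 1 → u = 0 ∧ s = 0 ∧ m = 0 ∧ r = 0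
  na_eq : na = x1 0 1 * (t * x1 0 1 * t) * (x1 4 1 * (t * x1 4 1 * t)) * (x1 0 1 * (t * x1 0 1 * t))
  nb_eq : nb = x1 3 1 * (t * x1 3 1 * t) * (x1 7 1 * (t * x1 7 1 * t)) * (x1 3 1 * (t * x1 3 1 * t))

namespace Two8

variable {F G : Type*} [Field F] [Group G] (R : Two8 F G)

/-- conjugation by `t` -/
def sw (g : G) : G := R.t * g * R.t

theorem t_inv : R.t⁻¹ = R.t := inv_eq_of_mul_eq_one_right R.tt

theorem sw_sw (g : G) : R.sw (R.sw g) = g := by
  show R.t * (R.t * g * R.t) * R.t = g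
  calc R.t * (R.t * g * R.t) * R.t = (R.t * R.t) * g * (R.t * R.t) := by group
    _ = g := by rw [R.tt, one_mul, mul_one]

theorem sw_mul (g h : G) : R.sw (g * h) = R.sw g * R.sw h := by
  show R.t * (g * h) * R.t = R.t * g * R.t * (R.t * h * R.t)
  calc R.t * (g * h) * R.t = R.t * g * 1 * h * R.t := by group
    _ = R.t * g * (R.t * R.t) * h * R.t := by rw [R.tt]
    _ = _ := by group

theorem sw_one : R.sw 1 = 1 := by
  show R.t * 1 * R.t = 1
  rw [mul_one, R.tt]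

theorem sw_inv (g : G) : R.sw g⁻¹ = (R.sw g)⁻¹ := by
  apply eq_inv_of_mul_eq_one_left
  rw [← sw_mul, inv_mul_cancel, sw_one]

theorem sw_inj {g h : G} (e : R.sw g = R.sw h) : g = h := by
  rw [← R.sw_sw g, e, R.sw_sw]

theorem sw_comm {g h : G} (e : Commute g h) : Commute (R.sw g) (R.sw h) := by
  show R.sw g * R.sw h = R.sw h * R.sw g
  rw [← sw_mul, ← sw_mul, e.eq]

theorem sw_of_comm {g : G} (h : Commute R.t g) : R.sw g = g := by
  show R.t * g * R.t = g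
  rw [h.eq, mul_assoc, R.tt, mul_one]

theorem sw_na : R.sw R.na = R.na := R.sw_of_comm R.t_na
theorem sw_nb : R.sw R.nb = R.nb := R.sw_of_comm R.t_nb

/-- conjugation by `t` as a homomorphism -/
def swHom : G →* G where
  toFun := R.sw
  map_one' := R.sw_one
  map_mul' := R.sw_mul

/-- the second copy -/
def x2 (i : ZMod 8) (u : F) : G := R.sw (R.x1 i u)

/-- the diagonal -/
def X (i : ZMod 8) (u : F) : G := R.x1 i u * R.x2 i u

theorem sw_x1 (i : ZMod 8) (u : F) : R.sw (R.x1 i u) = R.x2 i u := rfl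
theorem sw_x2 (i : ZMod 8) (u : F) : R.sw (R.x2 i u) = R.x1 i u := R.sw_sw _

theorem add2 (i : ZMod 8) (u v : F) : R.x2 i (u + v) = R.x2 i u * R.x2 i v := by
  rw [x2, R.add, sw_mul]; rfl

theorem x1_zero (i : ZMod 8) : R.x1 i 0 = 1 := by
  have h := R.add i 0 0
  rw [add_zero] at h
  exact left_eq_mul.1 h

theorem x2_zero (i : ZMod 8) : R.x2 i 0 = 1 := by rw [x2, R.x1_zero, sw_one]

theorem X_zero (i : ZMod 8) : R.X i 0 = 1 := by rw [X, R.x1_zero, R.x2_zero, one_mul]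

theorem na_x2 (i : ZMod 8) (u : F) : R.na * R.x2 i u = R.x2 (4 - i) u * R.na := by
  have h := congrArg R.sw (R.na_x i u)
  rwa [sw_mul, sw_mul, R.sw_na] at h

theorem nb_x2 (i : ZMod 8) (u : F) : R.nb * R.x2 i u = R.x2 (2 - i) u * R.nb := by
  have h := congrArg R.sw (R.nb_x i u)
  rwa [sw_mul, sw_mul, R.sw_nb] at h

theorem na_x1' (i : ZMod 8) (u : F) : R.na * R.x1 i u * R.na⁻¹ = R.x1 (4 - i) u := by
  rw [R.na_x, mul_inv_cancel_right]
theorem nb_x1' (i : ZMod 8) (u : F) : R.nb * R.x1 i u * R.nb⁻¹ = R.x1 (2 - i) u := by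
  rw [R.nb_x, mul_inv_cancel_right]
theorem na_x2' (i : ZMod 8) (u : F) : R.na * R.x2 i u * R.na⁻¹ = R.x2 (4 - i) u := by
  rw [R.na_x2, mul_inv_cancel_right]
theorem nb_x2' (i : ZMod 8) (u : F) : R.nb * R.x2 i u * R.nb⁻¹ = R.x2 (2 - i) u := by
  rw [R.nb_x2, mul_inv_cancel_right]

/-- the rotation `i ↦ i + 2` -/
def rot : G := R.na * R.nb

theorem rot_x1 (i : ZMod 8) (u : F) : R.rot * R.x1 i u * R.rot⁻¹ = R.x1 (i + 2) u := by
  have h : R.rot * R.x1 i u * R.rot⁻¹ = R.na * (R.nb * R.x1 i u * R.nb⁻¹) * R.na⁻¹ := by rw [rot]; group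
  rw [h, R.nb_x1', R.na_x1']
  congr 1
  ring

theorem rot_x2 (i : ZMod 8) (u : F) : R.rot * R.x2 i u * R.rot⁻¹ = R.x2 (i + 2) u := by
  have h : R.rot * R.x2 i u * R.rot⁻¹ = R.na * (R.nb * R.x2 i u * R.nb⁻¹) * R.na⁻¹ := by rw [rot]; group
  rw [h, R.nb_x2', R.na_x2']
  congr 1
  ring

theorem conj_comm {g x y : G} (h : Commute x y) : Commute (g * x * g⁻¹) (g * y * g⁻¹) := by
  show g * x * g⁻¹ * (g * y * g⁻¹) = g * y * g⁻¹ * (g * x * g⁻¹)
  calc g * x * g⁻¹ * (g * y * g⁻¹) = g * (x * y) * g⁻¹ := by group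
    _ = g * (y * x) * g⁻¹ := by rw [h.eq]
    _ = _ := by group

/-- `X1_i` commutes with `X2_j` -/
def P (i j : ZMod 8) : Prop := ∀ u v, Commute (R.x1 i u) (R.x2 j v)

variable {R}

theorem P.rot {i j : ZMod 8} (h : R.P i j) : R.P (i + 2) (j + 2) := by
  intro u v
  rw [← R.rot_x1, ← R.rot_x2]
  exact conj_comm (h u v)

theorem P.na {i j : ZMod 8} (h : R.P i j) : R.P (4 - i) (4 - j) := by
  intro u v
  rw [← R.na_x1', ← R.na_x2']
  exact conj_comm (h u v)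

theorem P.nb {i j : ZMod 8} (h : R.P i j) : R.P (2 - i) (2 - j) := by
  intro u v
  rw [← R.nb_x1', ← R.nb_x2']
  exact conj_comm (h u v)

theorem P.symm {i j : ZMod 8} (h : R.P i j) : R.P j i := by
  intro u v
  have h1 := R.sw_comm (h v u)
  rw [R.sw_x1, R.sw_x2] at h1
  exact h1.symm

theorem P.of_eq {i j i' j' : ZMod 8} (h : R.P i j) (hi : i = i') (hj : j = j') : R.P i' j' := by
  subst hi hj; exact h

variable (R)

/-- rotation induction -/
theorem ind {Q : ZMod 8 → Prop} (h0 : Q 0) (h1 : Q 1) (h : ∀ i, Q i → Q (i + 2)) (i : ZMod 8) : Q i := by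
  have h2 := h _ h0
  have h3 := h _ h1
  have h4 := h _ h2
  have h5 := h _ h3
  have h6 := h _ h4
  have h7 := h _ h5
  have key : ∀ j : ZMod 8, j = 0 ∨ j = 1 ∨ j = 0 + 2 ∨ j = 1 + 2 ∨ j = 0 + 2 + 2 ∨ j = 1 + 2 + 2 ∨
      j = 0 + 2 + 2 + 2 ∨ j = 1 + 2 + 2 + 2 := by decide
  rcases key i with rfl | rfl | rfl | rfl | rfl | rfl | rfl | rfl
  · exact h0
  · exact h1
  · exact h2
  · exact h3
  · exact h4
  · exact h5
  · exact h6
  · exact h7

theorem p0 (i : ZMod 8) : R.P i i := by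
  refine ind (Q := fun i => R.P i i) ?_ ?_ ?_ i
  · exact R.d00
  · exact R.d11
  · intro i h; exact h.rot

theorem p1 (i : ZMod 8) : R.P i (i + 1) := by
  refine ind (Q := fun i => R.P i (i + 1)) ?_ ?_ ?_ i
  · exact P.of_eq (R := R) (i := 0) (j := 1) R.d01 rfl rfl
  · exact P.of_eq (R := R) (i := 1) (j := 2) R.d12 rfl rfl
  · intro i h; exact h.rot.of_eq rfl (by ring)

theorem p2 (i : ZMod 8) : R.P i (i + 2) := by
  refine ind (Q := fun i => R.P i (i + 2)) ?_ ?_ ?_ i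
  · exact P.of_eq (R := R) (i := 0) (j := 2) R.d02 rfl rfl
  · exact P.of_eq (R := R) (i := 1) (j := 3) R.d13 rfl rfl
  · intro i h; exact h.rot

theorem p3 (i : ZMod 8) : R.P i (i + 3) := by
  refine ind (Q := fun i => R.P i (i + 3)) ?_ ?_ ?_ i
  · exact P.of_eq (R := R) (i := 0) (j := 3) R.d03 rfl rfl
  · have h : R.P 0 3 := R.d03
    exact h.na.symm.of_eq rfl rfl
  · intro i h; exact h.rot.of_eq rfl (by ring)

/-- the commutator relation of the second copy -/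
theorem rel2 (i : ZMod 8) (hi : i = 0 ∨ i = 2 ∨ i = 4 ∨ i = 6) (u s : F) : R.x2 i u * R.x2 (i + 3) s =
    R.x2 (i + 3) s * R.x2 i u * R.x2 (i + 2) (u * s) * R.x2 (i + 1) (u ^ 2 * s) := by
  have h0 : R.x2 0 u * R.x2 3 s = R.x2 3 s * R.x2 0 u * R.x2 2 (u * s) * R.x2 1 (u ^ 2 * s) := by
    have h := congrArg R.sw (R.c03 u s)
    simp only [sw_mul] at h
    exact h
  have hr : ∀ j : ZMod 8, R.x2 j u * R.x2 (j + 3) s =
      R.x2 (j + 3) s * R.x2 j u * R.x2 (j + 2) (u * s) * R.x2 (j + 1) (u ^ 2 * s) →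
      R.x2 (j + 2) u * R.x2 (j + 2 + 3) s =
      R.x2 (j + 2 + 3) s * R.x2 (j + 2) u * R.x2 (j + 2 + 2) (u * s) * R.x2 (j + 2 + 1) (u ^ 2 * s) := by
    intro j h
    have e3 : j + 2 + 3 = j + 3 + 2 := by ring
    have e1 : j + 2 + 1 = j + 1 + 2 := by ring
    have hf : ∀ i u, MulAut.conj R.rot (R.x2 i u) = R.x2 (i + 2) u := R.rot_x2
    have h' := congrArg (MulAut.conj R.rot) h
    simp only [map_mul, hf] at h'
    rw [e3, e1]
    exact h'
  have g0 := h0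
  have g2 := hr 0 h0
  have g4 := hr _ g2
  have g6 := hr _ g4
  rcases hi with rfl | rfl | rfl | rfl
  · exact g0
  · exact g2
  · exact g4
  · exact g6

/-- the opposite root groups -/
theorem p4 (i : ZMod 8) : R.P i (i + 4) := by
  refine ind (Q := fun i => R.P i (i + 4)) ?_ ?_ ?_ i
  · -- `X2_4 ≤ ⟨X2_2, X2_5, X2_3⟩`
    intro u v
    have h := R.rel2 2 (Or.inr (Or.inl rfl)) v 1
    have e : R.x2 (2 + 2) (v * 1) = (R.x2 (2 + 3) 1 * R.x2 2 v)⁻¹ * (R.x2 2 v * R.x2 (2 + 3) 1) *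
        (R.x2 (2 + 1) (v ^ 2 * 1))⁻¹ := by
      rw [h]; group
    rw [mul_one] at e
    have c2 : R.P 0 2 := (R.p2 0).of_eq rfl rfl
    have c5 : R.P 0 (2 + 3) := (R.p3 5).symm.of_eq rfl rfl
    have c3 : R.P 0 (2 + 1) := (R.p3 0).of_eq rfl rfl
    show Commute (R.x1 0 u) (R.x2 (2 + 2) v)
    rw [e]
    exact ((((c5 u _).mul_right (c2 u _)).inv_right).mul_right ((c2 u _).mul_right (c5 u _))).mul_right
      (c3 u _).inv_right
  · intro u v
    have h := R.rel2 4 (Or.inr (Or.inr (Or.inl rfl))) 1 v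
    have e : R.x2 (4 + 1) (1 ^ 2 * v) = (R.x2 (4 + 2) (1 * v))⁻¹ * (R.x2 (4 + 3) v * R.x2 4 1)⁻¹ *
        (R.x2 4 1 * R.x2 (4 + 3) v) := by
      rw [h]; group
    rw [one_pow, one_mul] at e
    have c4 : R.P 1 4 := (R.p3 1).of_eq rfl rfl
    have c7 : R.P 1 (4 + 3) := (R.p2 7).symm.of_eq rfl rfl
    have c6 : R.P 1 (4 + 2) := (R.p3 6).symm.of_eq rfl rfl
    show Commute (R.x1 1 u) (R.x2 (4 + 1) v)
    rw [e]
    exact (((c6 u _).inv_right).mul_right (((c7 u _).mul_right (c4 u _)).inv_right)).mul_right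
      ((c4 u _).mul_right (c7 u _))
  · intro i h; exact h.rot.of_eq rfl (by ring)

/-- **every root group commutes with the `t`-conjugate of every root group** -/
theorem comm12 (i j : ZMod 8) (u v : F) : Commute (R.x1 i u) (R.x2 j v) := by
  have key : ∀ i j : ZMod 8, j = i ∨ j = i + 1 ∨ j = i + 2 ∨ j = i + 3 ∨ j = i + 4 ∨ i = j + 3 ∨ i = j + 2 ∨
      i = j + 1 := by decide
  rcases key i j with rfl | rfl | rfl | rfl | rfl | rfl | rfl | rfl
  · exact R.p0 _ u v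
  · exact R.p1 _ u v
  · exact R.p2 _ u v
  · exact R.p3 _ u v
  · exact R.p4 _ u v
  · exact (R.p3 _).symm u v
  · exact (R.p2 _).symm u v
  · exact (R.p1 _).symm u v

end Two8

end Cfsg.Agent.StdSpFour.SplitV
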